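import Cfsg.Agent.H876.D3.PairBound

/-!
# The pair kernel `j(h) · j(G_2)^κ`, `t^κ = t` on the subfield (helper887)

`ex1`: the dimension is at least `14`.
-/

set_option autoImplicit false
set_option linter.unusedSectionVars false

namespace Cfsg.Agent.H887.D3

open Cfsg Cfsg.Geo Matrix Cfsg.Agent.H876.D3
open LieClassical.HermBasic LieClassical.HermSiegel Cfsg.Agent.TitsThree.KSideU Cfsg.Agent.TitsThree.KSideUDesc
  Cfsg.Agent.TitsThree.WBridge Cfsg.Agent.TitsThree.SiegelGen Cfsg.Agent.TitsThree.Siegel Cfsg.Agent.H61.SUCross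
  Cfsg.Agent.TitsThree.WittFrame

variable {K : Type} [Field K] [Fintype K] {q : ℕ} {k : Type*} [Field k]

/-- normalized isotropic lines -/
structure Nf (q : ℕ) (v w : Fin 4 → K) : Prop where
  ln : Ln q v w
  p0 : pl v w 0 ^ q = pl v w 0
  p1 : pl v w 1 ^ q = -pl v w 1
  p2 : pl v w 2 ^ q = -pl v w 2
  p3 : pl v w 3 ^ q = pl v w 3
  p4 : pl v w 4 ^ q = pl v w 5

theorem Nf.p5 (hK : Fintype.card K = q ^ 2) {v w : Fin 4 → K} (h : Nf q v w) : pl v w 5 ^ q = pl v w 4 := by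
  rw [← h.p4, pow_q_pow_q hK]

theorem Nf.fix (hK : Fintype.card K = q ^ 2) {v w v' w' : Fin 4 → K} (h : Nf q v w) (h' : Nf q v' w') :
    (∑ b, pl v w b * pl v' w' b ^ q) ^ q = ∑ b, pl v w b * pl v' w' b ^ q := by
  rw [sum_pow_q hK]
  simp only [mul_pow, pow_q_pow_q hK, Fin.sum_univ_six, h.p0, h.p1, h.p2, h.p3, h.p4, h.p5 hK, h'.p0, h'.p1, h'.p2,
    h'.p3, h'.p4, h'.p5 hK]
  ring

theorem nf_A (hK : Fintype.card K = q ^ 2) {ε : K} (hε : ε ^ q = -ε) {s t s' t' : K} (hs : s ^ q = s)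
    (ht : t ^ q = t) (hs' : s' ^ q = s') (ht' : t' ^ q = t')
    (hne : ∃ b, pl ![s, ε * t, 0, 0] ![0, 0, s', ε * t'] b ≠ 0) :
    Nf q ![s, ε * t, 0, 0] ![0, 0, s', ε * t'] := by
  have z := zero_pow_q (F := K) hK
  refine ⟨⟨?_, ?_, ?_, ?_, hne⟩, ?_, ?_, ?_, ?_, ?_⟩ <;>
    simp [pl, z, mul_pow, hε, hs, ht, hs', ht'] <;> ring

theorem nf_l (hK : Fintype.card K = q ^ 2) (z : K) : Nf q ![1, 0, 0, z] ![0, -z ^ q, 1, 0] := by
  have h0 := zero_pow_q (F := K) hK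
  refine ⟨ln_ell hK z, ?_, ?_, ?_, ?_, ?_⟩ <;>
    simp [pl, h0, mul_pow, neg_pow_q hK, pow_q_pow_q hK, mul_comm]

theorem nf_l' (hK : Fintype.card K = q ^ 2) {ε : K} (hε : ε ^ q = -ε) (hε0 : ε ≠ 0) (z : K) :
    Nf q ![1, 0, z, 0] ![0, -(ε * z ^ q), 0, ε] := by
  have h0 := zero_pow_q (F := K) hK
  refine ⟨⟨?_, ?_, ?_, ?_, 1, ?_⟩, ?_, ?_, ?_, ?_, ?_⟩ <;>
    simp [pl, h0, mul_pow, neg_pow_q hK, pow_q_pow_q hK, hε, hε0] <;> ring

theorem Nf.swap (hK : Fintype.card K = q ^ 2) {v w : Fin 4 → K} (h : Nf q v w) : Nf q w (-v) := by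
  have hp : ∀ b, pl w (-v) b = pl v w b := by
    intro b
    fin_cases b <;> simp [pl] <;> ring
  refine ⟨⟨h.ln.ww, ?_, ?_, ?_, ?_⟩, ?_, ?_, ?_, ?_, ?_⟩
  · simp only [Pi.neg_apply, neg_pow_q hK]
    linear_combination -h.ln.wv
  · simp only [Pi.neg_apply]
    linear_combination -h.ln.vw
  · simp only [Pi.neg_apply, neg_pow_q hK]
    linear_combination h.ln.vv
  · obtain ⟨b, hb⟩ := h.ln.pl_ne
    exact ⟨b, by rwa [hp]⟩
  · rw [hp]; exact h.p0
  · rw [hp]; exact h.p1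
  · rw [hp]; exact h.p2
  · rw [hp]; exact h.p3
  · rw [hp, hp]; exact h.p4

/-- the products -/
def F24 (j : K →+* k) (v w : Fin 4 → K) (p : Fin 4 × Fin 6) : k := j (v p.1) * j (pl v w p.2)

theorem rel24 (hK : Fintype.card K = q ^ 2) (j : K →+* k) {c : Fin 4 × Fin 6 → k}
    (h : ∀ v w : Fin 4 → K, Nf q v w → ∑ p, F24 j v w p * c p = 0) (s1 : c (1, 0) = 0) (s2 : c (1, 1) = 0)
    (s3 : c (3, 0) = 0) (s4 : c (3, 2) = 0) (s5 : c (0, 4) = 0) : c = 0 := by
  have z := zero_pow_q (F := K) hK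
  have hq : 2 ≤ q := two_le_q hK
  obtain ⟨ε, hε, hε0⟩ := exists_delta hK
  have hj : j ε ≠ 0 := (map_ne_zero j).2 hε0
  have i0 : (0 : K) ^ q = 0 := z
  have i1 : (1 : K) ^ q = 1 := one_pow _
  have a00 := h _ _ (nf_A hK hε i1 i0 i1 i0 ⟨0, by simp [pl]⟩)
  have a01 := h _ _ (nf_A hK hε i1 i0 i0 i1 ⟨1, by simp [pl, hε0]⟩)
  have a10 := h _ _ (nf_A hK hε i0 i1 i1 i0 ⟨2, by simp [pl, hε0]⟩)
  have a11 := h _ _ (nf_A hK hε i0 i1 i0 i1 ⟨3, by simp [pl, hε0]⟩)
  have a20 := h _ _ (nf_A hK hε i1 i1 i1 i0 ⟨0, by simp [pl]⟩)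
  have a21 := h _ _ (nf_A hK hε i1 i1 i0 i1 ⟨1, by simp [pl, hε0]⟩)
  have b00 := h _ _ ((nf_A hK hε i1 i0 i1 i0 ⟨0, by simp [pl]⟩).swap hK)
  have b10 := h _ _ ((nf_A hK hε i0 i1 i1 i0 ⟨2, by simp [pl, hε0]⟩).swap hK)
  have b01 := h _ _ ((nf_A hK hε i1 i0 i0 i1 ⟨1, by simp [pl, hε0]⟩).swap hK)
  have b11 := h _ _ ((nf_A hK hε i0 i1 i0 i1 ⟨3, by simp [pl, hε0]⟩).swap hK)
  have b02 := h _ _ ((nf_A hK hε i1 i0 i1 i1 ⟨0, by simp [pl]⟩).swap hK)
  have b12 := h _ _ ((nf_A hK hε i0 i1 i1 i1 ⟨2, by simp [pl, hε0]⟩).swap hK)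
  simp [F24, pl, Fintype.sum_prod_type, Fin.sum_univ_four, Fin.sum_univ_six, s1, s2, s3, s4, hj]
    at a00 a01 a10 a11 a20 a21 b00 b01 b10 b11 b02 b12
  have hjj : j ε * j ε ≠ 0 := mul_ne_zero hj hj
  have c02 : c (0, 2) = 0 := by
    have : j ε * c (0, 2) = 0 := by linear_combination a20 - a00 - j ε * j ε * a10
    exact (mul_eq_zero.1 this).resolve_left hj
  have c03 : c (0, 3) = 0 := by
    have : j ε * j ε * c (0, 3) = 0 := by
      linear_combination a21 - j ε * a01 - j ε * (j ε * j ε) * a11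
    exact (mul_eq_zero.1 this).resolve_left hjj
  have c21 : c (2, 1) = 0 := by
    have : j ε * c (2, 1) = 0 := by linear_combination b02 - b00 - j ε * j ε * b01
    exact (mul_eq_zero.1 this).resolve_left hj
  have c23 : c (2, 3) = 0 := by
    have : j ε * j ε * c (2, 3) = 0 := by
      linear_combination b12 - j ε * b10 - j ε * (j ε * j ε) * b11
    exact (mul_eq_zero.1 this).resolve_left hjj
  have hlt : q + 1 < Fintype.card K := by rw [hK]; nlinarith
  have l1 : ∀ t : K, c (0, 5) * j t ^ 1 + c (3, 5) * j t ^ 2 + c (3, 4) * j t ^ (q + 1) = 0 := by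
    intro t
    have := h _ _ (nf_l hK t)
    simp [F24, pl, Fintype.sum_prod_type, Fin.sum_univ_four, Fin.sum_univ_six, s3, s5, a00,
      c03, b11] at this
    linear_combination -this
  have k1 := pow_indep (k := k) (T := K) (τ := j) j.injective ![1, 2, q + 1] (by
      intro a b hab
      fin_cases a <;> fin_cases b <;> simp at hab ⊢ <;> omega) (by
      intro a
      fin_cases a <;> simp <;> omega) ![c (0, 5), c (3, 5), c (3, 4)] (by
      intro t
      simpa [Fin.sum_univ_three] using l1 t)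
  have c05 : c (0, 5) = 0 := congrFun k1 0
  have c35 : c (3, 5) = 0 := congrFun k1 1
  have c34 : c (3, 4) = 0 := congrFun k1 2
  have l2 : ∀ t : K, c (2, 5) * j t ^ 2 + (-c (2, 4)) * j t ^ (q + 1) = 0 := by
    intro t
    have := h _ _ (nf_l' hK hε hε0 t)
    simp [F24, pl, Fintype.sum_prod_type, Fin.sum_univ_four, Fin.sum_univ_six, s5, a01,
      c02, b10, c21, c05] at this
    have h2 : j ε * (c (2, 5) * j t ^ 2 + (-c (2, 4)) * j t ^ (q + 1)) = 0 := by linear_combination this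
    exact (mul_eq_zero.1 h2).resolve_left hj
  have k2 := pow_indep (k := k) (T := K) (τ := j) j.injective ![2, q + 1] (by
      intro a b hab
      fin_cases a <;> fin_cases b <;> simp at hab ⊢ <;> omega) (by
      intro a
      fin_cases a <;> simp <;> omega) ![c (2, 5), -c (2, 4)] (by
      intro t
      simpa [Fin.sum_univ_two] using l2 t)
  have c25 : c (2, 5) = 0 := congrFun k2 0
  have c24 : c (2, 4) = 0 := neg_eq_zero.1 (congrFun k2 1)
  have l3 : ∀ t : K, c (1, 4) * j t ^ q + c (1, 5) * j t ^ 1 = 0 := by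
    intro t
    by_cases ht : t = 0
    · rw [ht, map_zero, zero_pow (by omega), zero_pow (by omega), mul_zero, mul_zero, add_zero]
    have := h _ _ ((nf_l hK t).swap hK)
    simp [F24, pl, Fintype.sum_prod_type, Fin.sum_univ_four, Fin.sum_univ_six, s1, a11, b00, c23, c24, c25] at this
    have h2 : j t ^ q * (c (1, 4) * j t ^ q + c (1, 5) * j t ^ 1) = 0 := by linear_combination this
    exact (mul_eq_zero.1 h2).resolve_left (pow_ne_zero _ ((map_ne_zero j).2 ht))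
  have k3 := pow_indep (k := k) (T := K) (τ := j) j.injective ![q, 1] (by
      intro a b hab
      fin_cases a <;> fin_cases b <;> simp at hab ⊢ <;> omega) (by
      intro a
      fin_cases a <;> simp <;> omega) ![c (1, 4), c (1, 5)] (by
      intro t
      simpa [Fin.sum_univ_two] using l3 t)
  have c14 : c (1, 4) = 0 := congrFun k3 0
  have c15 : c (1, 5) = 0 := congrFun k3 1
  funext p
  obtain ⟨a, b⟩ := p
  fin_cases a <;> fin_cases b <;> assumption

/-- **The exceptional case `θ = 1`, `t^κ = t` on the subfield.** -/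
theorem ex1_pair (hK : Fintype.card K = q ^ 2) {V : Type*} [AddCommGroup V] [Module k V]
    [FiniteDimensional k V] {j : K →+* k} {κ : ℕ}
    {vv : (Fin 4 → K) → (Fin 4 → K) → V} {ff : (Fin 4 → K) → (Fin 4 → K) → Module.Dual k V}
    (h : ∀ v w v' w', Ln q v w → Ln q v' w' → ff v' w' (vv v w) =
      j (∑ a, v a * v' a ^ q) ^ 1 * j (∑ b, pl v w b * pl v' w' b ^ q) ^ κ)
    (hκ : κ ≠ 0) (hred : red q κ = 1) : 14 ≤ Module.finrank k V := by
  have key := H876.D3.sylvester (k := k) (V := V) (α := Fin 4 × Fin 6)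
    (X := {p : (Fin 4 → K) × (Fin 4 → K) // Nf q p.1 p.2}) (Y := {p : (Fin 4 → K) × (Fin 4 → K) // Nf q p.1 p.2})
    (vv := fun x => vv x.1.1 x.1.2) (ff := fun y => ff y.1.1 y.1.2)
    (F := fun x => F24 j x.1.1 x.1.2) (G := fun y => F24 (jb hK j) y.1.1 y.1.2)
    (S := {(1, 0), (1, 1), (3, 0), (3, 2), (0, 4)}) (S' := {(1, 0), (1, 1), (3, 0), (3, 2), (0, 4)})
    (fun x y => by
      have h1 := x.2.fix hK y.2
      rw [h _ _ _ _ x.2.ln y.2.ln, pow_one, ← map_pow, ← pow_red' hK h1 hκ, hred, pow_one, map_sum, map_sum,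
        Finset.sum_mul_sum, Fintype.sum_prod_type]
      refine Finset.sum_congr rfl fun a _ => Finset.sum_congr rfl fun b _ => ?_
      simp only [F24, jb_apply, map_mul]
      ring)
    (fun c hc h0 => rel24 hK j (fun v w hvw => hc ⟨(v, w), hvw⟩) (h0 _ (by simp)) (h0 _ (by simp)) (h0 _ (by simp))
      (h0 _ (by simp)) (h0 _ (by simp)))
    (fun c hc h0 => rel24 hK (jb hK j) (fun v w hvw => hc ⟨(v, w), hvw⟩) (h0 _ (by simp)) (h0 _ (by simp))
      (h0 _ (by simp)) (h0 _ (by simp)) (h0 _ (by simp)))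
  have h5 : ({(1, 0), (1, 1), (3, 0), (3, 2), (0, 4)} : Finset (Fin 4 × Fin 6)).card = 5 := by decide
  simp only [Fintype.card_prod, Fintype.card_fin, h5] at key
  omega

end Cfsg.Agent.H887.D3
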