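import Cfsg.Agent.H876.D3.FlagsNum
import Cfsg.Agent.H887.D3.ExOne

/-!
# The pair kernel `j(h) · j(G_2)^κ`, `t^κ = t^2` on the subfield, `p = 3` (helper887)

`ex2_pair`: the dimension is at least `13`: the flags `(x + l y, y)` give `12`, the lines `ℓ'(z)` one more
(the coefficient of `z²`).
-/

set_option autoImplicit false
set_option linter.unusedSectionVars false

namespace Cfsg.Agent.H887.D3

open Cfsg Cfsg.Geo Matrix Cfsg.Agent.H876.D3
open LieClassical.HermBasic LieClassical.HermSiegel Cfsg.Agent.TitsThree.KSideU Cfsg.Agent.TitsThree.KSideUDesc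
  Cfsg.Agent.TitsThree.WBridge Cfsg.Agent.TitsThree.SiegelGen Cfsg.Agent.TitsThree.Siegel Cfsg.Agent.H61.SUCross
  Cfsg.Agent.TitsThree.WittFrame
open Cfsg.Agent.Phan (fixedField mem_fixedField card_fixedField)

variable {K : Type} [Field K] [Fintype K] {q : ℕ} {hK : Fintype.card K = q ^ 2} {k : Type*} [Field k]

/-- the flags against `ℓ'(z)`: the form -/
theorem fl_l1 (hK : Fintype.card K = q ^ 2) (ε s t l z : K) :
    ∑ a, (![1, ε * s, l, l * (ε * t)] : Fin 4 → K) a * ![1, 0, z, 0] a ^ q = 1 + l * z ^ q := by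
  simp [Fin.sum_univ_four, zero_pow_q hK]

/-- the flags against `ℓ'(z)`: the Plücker form -/
theorem fl_l2 (hK : Fintype.card K = q ^ 2) {ε : K} (hε : ε ^ q = -ε) (s t l z : K) :
    ∑ b, pl ![1, ε * s, l, l * (ε * t)] ![0, 0, 1, ε * t] b * pl ![1, 0, z, 0] ![0, -(ε * z ^ q), 0, ε] b ^ q =
      -ε ^ 2 * (t + s * (z * z ^ q)) := by
  simp [Fin.sum_univ_six, pl, zero_pow_q hK, hε, mul_pow, pow_q_pow_q hK]
  ring

theorem l_l1 (hK : Fintype.card K = q ^ 2) (z : K) :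
    ∑ a, (![1, 0, 0, 1] : Fin 4 → K) a * ![1, 0, z, 0] a ^ q = 1 := by
  simp [Fin.sum_univ_four, zero_pow_q hK]

theorem l_l2 (hK : Fintype.card K = q ^ 2) {ε : K} (hε : ε ^ q = -ε) (z : K) :
    ∑ b, pl ![1, 0, 0, 1] ![0, -1 ^ q, 1, 0] b * pl ![1, 0, z, 0] ![0, -(ε * z ^ q), 0, ε] b ^ q =
      ε * (z ^ q - z) := by
  simp [Fin.sum_univ_six, pl, zero_pow_q hK, hε, mul_pow, neg_pow_q hK, pow_q_pow_q hK]
  ring

/-- the coefficient functional of `z²` -/
theorem ex_A (hK : Fintype.card K = q ^ 2) (hq : 3 ≤ q) (j : K →+* k) : ∃ A : K → k,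
    ∑ z, A z * j z ^ 2 = 1 ∧ ∀ e, e < q ^ 2 ∨ e = 3 * q + 2 → e ≠ 2 → ∑ z, A z * j z ^ e = 0 := by
  obtain ⟨A, hA⟩ := exists_dual_pow (T := K) (k := k) j j.injective
  rw [hK] at hA
  have h2 : 2 < q ^ 2 := by nlinarith
  refine ⟨A 2, ?_, ?_⟩
  · rw [hA 2 h2 2 h2, if_pos rfl]
  · intro e he he2
    by_cases hlt : e < q ^ 2
    · rw [hA 2 h2 e hlt, if_neg (Ne.symm he2)]
    · replace he := he.resolve_left hlt
      have hq3 : q = 3 := by
        by_contra hne
        apply hlt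
        have : 4 ≤ q := by omega
        rw [he]
        nlinarith
      have e1 : ∀ z : K, j z ^ e = j z ^ 3 := by
        intro z
        have h9 : z ^ 9 = z := by
          have := FiniteField.pow_card z
          rwa [hK, hq3] at this
        rw [← map_pow, ← map_pow, he, hq3]
        congr 1
        calc z ^ (3 * 3 + 2) = z ^ 9 * z ^ 2 := by ring
          _ = z ^ 3 := by rw [h9]; ring
      simp only [e1]
      rw [hA 2 h2 3 (by rw [hq3]; norm_num), if_neg (by norm_num)]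

/-- **The exceptional case `p = 3`, `θ = 1`, `t^κ = t^2` on the subfield.** -/
theorem ex2_pair [CharP k 3] (hK : Fintype.card K = q ^ 2) {V : Type*} [AddCommGroup V] [Module k V]
    [FiniteDimensional k V] {j : K →+* k} {κ : ℕ}
    {vv : (Fin 4 → K) → (Fin 4 → K) → V} {ff : (Fin 4 → K) → (Fin 4 → K) → Module.Dual k V}
    (h : PK q j 1 κ vv ff) (hκ : κ ≠ 0) (hred : red q κ = 2) : 13 ≤ Module.finrank k V := by
  classical
  have : Fact (Nat.Prime 3) := ⟨Nat.prime_three⟩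
  obtain ⟨ε, c, hε, hε0, hc0, hc⟩ := exists_c hK
  have : Fintype (fixedField hK) := Fintype.ofFinite _
  have hq3 : 3 ≤ q := by
    have h1 := red_le (Q := q) (e := κ) (two_le_q hK)
    omega
  obtain ⟨A, hA2, hA⟩ := ex_A hK hq3 j
  have hje : j ε ≠ 0 := (map_ne_zero j).2 hε0
  have hjε : j ε ^ 2 ≠ 0 := pow_ne_zero _ hje
  -- the twelve dimensions
  have hq1 : 1 < q ^ 2 := by nlinarith
  have h12 : 12 ≤ ∑ i ∈ Ib 3 1, RR 3 q (1 - i + κ) * RR 3 q (i + κ) := by
    have hI : Ib 3 1 = {0, 1} := by decide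
    rw [hI, Finset.sum_pair (by norm_num)]
    have r1 : RR 3 q κ = 3 := by
      rw [RR_of_ne hκ, hred]
      decide
    have r2 : 2 ≤ RR 3 q (1 + κ) := two_le_RR (by omega)
    have e1 : 1 - 0 + κ = 1 + κ := by omega
    have e2 : 1 - 1 + κ = κ := by omega
    rw [e1, e2, r1]
    omega
  have hrk := (flags_rk (p := 3) hK j hc0 (θ := 1) (κ := κ) hq1).mono h12
  let Fl : K × (fixedField hK × fixedField hK) → (Fin 4 → K) × (Fin 4 → K) := fun x =>
    (![1, ε * (x.2.1 : K), x.1, x.1 * (ε * x.2.2)], ![0, 0, 1, ε * (x.2.2 : K)])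
  let f : (K × (fixedField hK × fixedField hK)) ⊕ Unit → (Fin 4 → K) × (Fin 4 → K) :=
    Sum.elim Fl (fun _ => (![1, 0, 0, 1], ![0, -1 ^ q, 1, 0]))
  let g : (K × (fixedField hK × fixedField hK)) ⊕ K → (Fin 4 → K) × (Fin 4 → K) :=
    Sum.elim Fl (fun z => (![1, 0, z, 0], ![0, -(ε * z ^ q), 0, ε]))
  have hf : ∀ x, Ln q (f x).1 (f x).2 := by
    rintro (x | x)
    · exact ln_SF hK hε _ _ _ (E_q hK _) (E_q hK _)
    · exact (nf_l hK 1).ln
  have hg : ∀ x, Ln q (g x).1 (g x).2 := by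
    rintro (x | x)
    · exact ln_SF hK hε _ _ _ (E_q hK _) (E_q hK _)
    · exact (nf_l' hK hε hε0 x).ln
  let C : (K × (fixedField hK × fixedField hK)) ⊕ Unit → (K × (fixedField hK × fixedField hK)) ⊕ K → k :=
    fun x y => j (∑ a, (f x).1 a * (g y).1 a ^ q) ^ 1 *
      j (∑ b, pl (f x).1 (f x).2 b * pl (g y).1 (g y).2 b ^ q) ^ κ
  have hfix : ∀ t : K, t ^ q = t → j t ^ κ = j t ^ 2 := by
    intro t ht
    rw [← map_pow, ← pow_red' hK ht hκ, hred, map_pow]
  have key : Rk C (12 + Fintype.card Unit) := by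
    refine Rk.add_sum (β := Unit) ?_ (fun _ _ => (j ε ^ 2)⁻¹) (fun _ => A) ?_ ?_
    · refine hrk.congr fun x y => ?_
      change j (∑ a, (Fl x).1 a * (Fl y).1 a ^ q) ^ 1 *
        j (∑ b, pl (Fl x).1 (Fl x).2 b * pl (Fl y).1 (Fl y).2 b ^ q) ^ κ = _
      rw [flags_eq1 hε hc, flags_eq2 hε hc]
    · intro _ _
      rw [if_pos rfl]
      simp only [bl, Finset.univ_unique, Finset.sum_singleton]
      have e1 : ∀ z : K, C (Sum.inr ()) (Sum.inr z) = j ε ^ 2 * (j z ^ (2 * q) - 2 * j z ^ (q + 1) + j z ^ 2) := by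
        intro z
        change j (∑ a, (![1, 0, 0, 1] : Fin 4 → K) a * ![1, 0, z, 0] a ^ q) ^ 1 *
          j (∑ b, pl ![1, 0, 0, 1] ![0, -1 ^ q, 1, 0] b * pl ![1, 0, z, 0] ![0, -(ε * z ^ q), 0, ε] b ^ q) ^ κ = _
        rw [l_l1 hK, l_l2 hK hε, hfix _ (by rw [mul_pow, hε, sub_pow_q hK, pow_q_pow_q hK]; ring)]
        simp only [map_one, map_mul, map_sub, map_pow]
        ring
      have e2 : ∑ z, (j ε ^ 2)⁻¹ * C (Sum.inr ()) (Sum.inr z) * A z =
          ∑ z, A z * j z ^ (2 * q) - 2 * ∑ z, A z * j z ^ (q + 1) + ∑ z, A z * j z ^ 2 := by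
        rw [Finset.mul_sum, ← Finset.sum_sub_distrib, ← Finset.sum_add_distrib]
        refine Finset.sum_congr rfl fun z _ => ?_
        rw [e1]
        field_simp
      rw [e2, hA2, hA (2 * q) (Or.inl (by nlinarith)) (by omega), hA (q + 1) (Or.inl (by nlinarith)) (by omega)]
      ring
    · rintro ⟨l, s, t⟩ _
      have e1 : ∀ z : K, C (Sum.inl (l, s, t)) (Sum.inr z) = (1 + j l * j z ^ q) *
          ((-j ε ^ 2) ^ 2 * (j t ^ 2 + 2 * j t * j s * j z ^ (q + 1) + j s ^ 2 * j z ^ (2 * q + 2))) := by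
        intro z
        change j (∑ a, (![1, ε * (s : K), l, l * (ε * t)] : Fin 4 → K) a * ![1, 0, z, 0] a ^ q) ^ 1 *
          j (∑ b, pl ![1, ε * (s : K), l, l * (ε * t)] ![0, 0, 1, ε * (t : K)] b *
            pl ![1, 0, z, 0] ![0, -(ε * z ^ q), 0, ε] b ^ q) ^ κ = _
        rw [fl_l1 hK, fl_l2 hK hε, hfix _ (by
          rw [mul_pow, neg_pow_q hK, ← pow_mul, mul_comm 2 q, pow_mul, hε, add_pow_q hK, mul_pow, mul_pow,
            pow_q_pow_q hK, E_q hK, E_q hK]
          ring)]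
        simp only [map_one, map_mul, map_add, map_neg, map_pow]
        ring
      have e2 : ∑ z, C (Sum.inl (l, s, t)) (Sum.inr z) * A z =
          (-j ε ^ 2) ^ 2 * (j t ^ 2 * ∑ z, A z * j z ^ 0 + 2 * j t * j s * ∑ z, A z * j z ^ (q + 1) +
            j s ^ 2 * ∑ z, A z * j z ^ (2 * q + 2) + j l * j t ^ 2 * ∑ z, A z * j z ^ q +
            2 * j l * j t * j s * ∑ z, A z * j z ^ (2 * q + 1) + j l * j s ^ 2 * ∑ z, A z * j z ^ (3 * q + 2)) := by
        simp only [Finset.mul_sum, ← Finset.sum_add_distrib]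
        refine Finset.sum_congr rfl fun z _ => ?_
        rw [e1]
        ring
      rw [e2, hA 0 (Or.inl (by omega)) (by omega), hA (q + 1) (Or.inl (by nlinarith)) (by omega),
        hA (2 * q + 2) (Or.inl (by nlinarith)) (by omega), hA q (Or.inl (by nlinarith)) (by omega),
        hA (2 * q + 1) (Or.inl (by nlinarith)) (by omega), hA (3 * q + 2) (Or.inr rfl) (by omega)]
      ring
  have := h.le_finrank hf hg key (fun x y => rfl)
  simpa using this

end Cfsg.Agent.H887.D3
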