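import Cfsg.Agent.H887.D3.Fields
import Cfsg.Agent.H991.D3.FiveMain

/-!
# Fields of the small modules of `SU_N(q)`, all `N ≥ 4` (helper887)

* **`psu_field`** : `card ι ≤ 12`, not `N = 4`, `card ι = 6`: `|F| = q ^ 2` and `¬ SD P`;
* **`psu5_ten`**, **`psu_nat`**.
-/

set_option autoImplicit false
set_option linter.unusedSectionVars false

namespace Cfsg.Agent.H887.D3

open Cfsg Cfsg.Geo Cfsg.Agent.H876.D3 Cfsg.Agent.H915.LD
open LieClassical.HermBasic Cfsg.Agent.TitsThree.KSideU Cfsg.Agent.TitsThree.WBridge Cfsg.Agent.TitsThree.WittFrame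

universe u

section

variable {F : Type u} [Field F] [Finite F] {ι : Type} [Fintype ι] [DecidableEq ι] {P : Subgroup (GL ι F)}

/-- **The fields.** -/
theorem psu_field (p : ℕ) [hp : Fact p.Prime] [CharP F p] (K : Type) [Field K] [Fintype K] [CharP K p] {N q : ℕ}
    (hN : 4 ≤ N) (hn : Fintype.card ι ≤ 12) (hK : Fintype.card K = q ^ 2) (hC : Core P)
    (Φ : Soc P ≃* PSU N K q) (h6 : ¬ (N = 4 ∧ Fintype.card ι = 6)) : Nat.card F = q ^ 2 ∧ ¬ SD P := by
  by_cases hN5 : N = 5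
  · subst hN5
    obtain ⟨m, W, hm, hW, hev, hodd, k, _, _, _, j, J, θ, hB, hJ, hker, hval⟩ := setup2 p K hN hK hC Φ
    have hfin : Module.finrank k (ι → k) = Fintype.card ι := Module.finrank_fintype_fun_eq_card k
    obtain ⟨f, hf⟩ := exists_f hK p
    have hcj := cj_psu p hN hK hC Φ
    have hV0 : W.V0 ≠ ⊥ := by
      intro h
      have := hev h
      omega
    have h1 := dims2 p hN hm W hev hodd hB hJ hker (fun _ h1 hθ vv ff h =>
      H991.D3.node1_five_pow p hm W hV0 h hθ h1 (hB.le _))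
    rw [hfin] at h1
    rcases h1 with ⟨i, hi, hi', ⟨⟨a, ha⟩, -⟩ | ⟨⟨a, ha⟩, -⟩⟩ | h1 | h1
    · exact card_sq p hK hf hC hcj j (Or.inl rfl) (a := a) (by rw [← ha]; exact hval i hi hi')
    · exact card_sq p hK hf hC hcj j (Or.inr rfl) (a := a) (by rw [← ha]; exact hval i hi hi')
    · exact absurd h1 h6
    · omega
  · exact psu_field' p K hN hN5 hn hK hC Φ h6

/-- **`PSU_5(q)` in dimension `10`.** -/
theorem psu5_ten (p : ℕ) [hp : Fact p.Prime] [CharP F p] (K : Type) [Field K] [Fintype K] [CharP K p] {q : ℕ}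
    (hK : Fintype.card K = q ^ 2) (hC : Core P) (Φ : Soc P ≃* PSU 5 K q) (hn : Fintype.card ι = 10) :
    Nat.card F = q ^ 2 ∧ ¬ SD P :=
  psu_field p K (by norm_num) (by omega) hK hC Φ (by omega)

/-- **The natural module.** -/
theorem psu_nat (p : ℕ) [hp : Fact p.Prime] [CharP F p] (K : Type) [Field K] [Fintype K] [CharP K p] {N q : ℕ}
    (hN : 4 ≤ N) (hN12 : N ≤ 12) (hK : Fintype.card K = q ^ 2) (hC : Core P)
    (Φ : Soc P ≃* PSU N K q) (hn : Fintype.card ι = N) : Nat.card F = q ^ 2 ∧ ¬ SD P :=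
  psu_field p K hN (by omega) hK hC Φ (by omega)

end

end Cfsg.Agent.H887.D3
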