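import Cfsg.Agent.H887.D3.Vec

/-!
# `SU_N(q)`, node `0`, weight `p^a (1 + q)` (helper887)

`node0_adj`: the kernel `j (h x y)^(p^a + p^(a+f))`, `q = p^f`, on isotropic vectors has rank at least
`14` for `N ≥ 4`.
-/

set_option autoImplicit false
set_option linter.unusedSectionVars false

namespace Cfsg.Agent.H887.D3

open Cfsg Cfsg.Geo Matrix Cfsg.Agent.H876.D3
open LieClassical.HermBasic LieClassical.HermSiegel Cfsg.Agent.TitsThree.KSideU Cfsg.Agent.TitsThree.KSideUDesc
  Cfsg.Agent.TitsThree.WBridge Cfsg.Agent.TitsThree.SiegelGen Cfsg.Agent.TitsThree.Siegel Cfsg.Agent.H61.SUCross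
  Cfsg.Agent.TitsThree.WittFrame

variable {K : Type} [Field K] [Fintype K] {N q m : ℕ} {k : Type*} [Field k]

/-- the form on four coordinates -/
def h4 (q : ℕ) (x y : Fin 4 → K) : K := ∑ i, x i * y (![1, 0, 3, 2] i) ^ q

/-- four coordinates -/
def ex (x : Fin 4 → K) : Fin 5 → K := ![x 0, x 1, x 2, x 3, 0]

theorem hf_ex (η : K) (x y : Fin 4 → K) : hf q η (ex x) (ex y) = h4 q x y := by
  simp [hf, h4, ex, Fin.sum_univ_four]

/-- the products `x_i x_k^q` -/
def F16 (q : ℕ) (j : K →+* k) (x : Fin 4 → K) (p : Fin 4 × Fin 4) : k := j (x p.1) * j (x p.2 ^ q)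

/-- the coefficients -/
def G16 (q : ℕ) (j : K →+* k) (x : Fin 4 → K) (p : Fin 4 × Fin 4) : k :=
  j (x (![1, 0, 3, 2] p.1) ^ q) * j (x (![1, 0, 3, 2] p.2))

theorem norm_eq (hK : Fintype.card K = q ^ 2) (j : K →+* k) (x y : Fin 4 → K) :
    j (h4 q x y) ^ (1 + q) = ∑ p, F16 q j x p * G16 q j y p := by
  have h1 : h4 q x y ^ q = ∑ i, x i ^ q * y (![1, 0, 3, 2] i) := by
    rw [h4, sum_pow_q hK]
    exact Finset.sum_congr rfl fun i _ => by rw [mul_pow, pow_q_pow_q hK]
  rw [pow_add, pow_one, ← map_pow, h1, h4, map_sum, map_sum, Finset.sum_mul_sum, Fintype.sum_prod_type]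
  refine Finset.sum_congr rfl fun a _ => Finset.sum_congr rfl fun b _ => ?_
  simp only [F16, G16, map_mul]
  ring

theorem rel16 (hK : Fintype.card K = q ^ 2) (j : K →+* k) {c : Fin 4 × Fin 4 → k}
    (h : ∀ x : Fin 4 → K, x ≠ 0 → h4 q x x = 0 → ∑ p, F16 q j x p * c p = 0) (h01 : c (0, 1) = 0) :
    c = 0 := by
  have z := zero_pow_q (F := K) hK
  obtain ⟨ε, hε0, hε⟩ := ex_eps hK
  obtain ⟨t, ht⟩ := ex_ne hK
  obtain ⟨u, hu⟩ := ex_tr hK
  have huq : (-u ^ q) ^ q = -u := by rw [neg_pow_q hK, pow_q_pow_q hK]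
  have d0 := h ![1, 0, 0, 0] (by simp) (by simp [h4, Fin.sum_univ_four, z])
  have d1 := h ![0, 1, 0, 0] (by simp) (by simp [h4, Fin.sum_univ_four, z])
  have d2 := h ![0, 0, 1, 0] (by simp) (by simp [h4, Fin.sum_univ_four, z])
  have d3 := h ![0, 0, 0, 1] (by simp) (by simp [h4, Fin.sum_univ_four, z])
  have e01 := h ![1, ε, 0, 0] (by simp) (by simp [h4, Fin.sum_univ_four, z, hε])
  have e23 := h ![0, 0, 1, ε] (by simp) (by simp [h4, Fin.sum_univ_four, z, hε])
  have g02 := h ![1, 0, 1, 0] (by simp) (by simp [h4, Fin.sum_univ_four, z])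
  have g03 := h ![1, 0, 0, 1] (by simp) (by simp [h4, Fin.sum_univ_four, z])
  have g12 := h ![0, 1, 1, 0] (by simp) (by simp [h4, Fin.sum_univ_four, z])
  have g13 := h ![0, 1, 0, 1] (by simp) (by simp [h4, Fin.sum_univ_four, z])
  have t02 := h ![1, 0, t, 0] (by simp) (by simp [h4, Fin.sum_univ_four, z])
  have t03 := h ![1, 0, 0, t] (by simp) (by simp [h4, Fin.sum_univ_four, z])
  have t12 := h ![0, 1, t, 0] (by simp) (by simp [h4, Fin.sum_univ_four, z])
  have t13 := h ![0, 1, 0, t] (by simp) (by simp [h4, Fin.sum_univ_four, z])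
  have s := h ![1, u, 1, -u ^ q] (by simp) (by simp [h4, Fin.sum_univ_four, huq])
  simp [F16, Fintype.sum_prod_type, Fin.sum_univ_four, z, hε, huq, h01, -map_pow] at d0 d1 d2 d3 e01 e23 g02 g03 g12 g13 t02 t03 t12 t13 s
  rw [d0, d1] at e01
  rw [d2, d3] at e23
  rw [d0, d2] at g02 t02
  rw [d0, d3] at g03 t03
  rw [d1, d2] at g12 t12
  rw [d1, d3] at g13 t13
  have hjε : j ε ≠ 0 := (map_ne_zero j).2 hε0
  have hjt : j (t ^ q) - j t ≠ 0 := by
    rw [← map_sub]
    exact (map_ne_zero j).2 (sub_ne_zero.2 ht)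
  have hju : j u + j (u ^ q) ≠ 0 := by
    rw [← map_add]
    exact (map_ne_zero j).2 hu
  have k02 : c (0, 2) = 0 := by
    have : (j (t ^ q) - j t) * c (0, 2) = 0 := by linear_combination t02 - j t * g02
    exact (mul_eq_zero.1 this).resolve_left hjt
  have k20 : c (2, 0) = 0 := by linear_combination g02 - k02
  have k03 : c (0, 3) = 0 := by
    have : (j (t ^ q) - j t) * c (0, 3) = 0 := by linear_combination t03 - j t * g03
    exact (mul_eq_zero.1 this).resolve_left hjt
  have k30 : c (3, 0) = 0 := by linear_combination g03 - k03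
  have k12 : c (1, 2) = 0 := by
    have : (j (t ^ q) - j t) * c (1, 2) = 0 := by linear_combination t12 - j t * g12
    exact (mul_eq_zero.1 this).resolve_left hjt
  have k21 : c (2, 1) = 0 := by linear_combination g12 - k12
  have k13 : c (1, 3) = 0 := by
    have : (j (t ^ q) - j t) * c (1, 3) = 0 := by linear_combination t13 - j t * g13
    exact (mul_eq_zero.1 this).resolve_left hjt
  have k31 : c (3, 1) = 0 := by linear_combination g13 - k13
  have k10 : c (1, 0) = 0 := by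
    have : j ε * c (1, 0) = 0 := by linear_combination e01
    exact (mul_eq_zero.1 this).resolve_left hjε
  have k32 : c (3, 2) = c (2, 3) := by
    have : j ε * (c (3, 2) - c (2, 3)) = 0 := by linear_combination e23
    exact sub_eq_zero.1 ((mul_eq_zero.1 this).resolve_left hjε)
  rw [d0, d1, d2, d3, k02, k03, k10, k12, k13, k20, k21, k30, k31, k32] at s
  have k23 : c (2, 3) = 0 := by
    have : (j u + j (u ^ q)) * c (2, 3) = 0 := by linear_combination -s
    exact (mul_eq_zero.1 this).resolve_left hju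
  rw [k23] at k32
  funext p
  obtain ⟨a, b⟩ := p
  fin_cases a <;> fin_cases b <;> assumption

/-- the index set of the relations -/
theorem rel16' (hK : Fintype.card K = q ^ 2) (j : K →+* k) {c : Fin 4 × Fin 4 → k}
    (h : ∀ x : Fin 4 → K, x ≠ 0 → h4 q x x = 0 → ∑ p, G16 q j x p * c p = 0) (h01 : c (0, 1) = 0) :
    c = 0 := by
  let σ : Fin 4 → Fin 4 := ![1, 0, 3, 2]
  have hσ : ∀ a, σ (σ a) = a := by decide
  let e : Fin 4 × Fin 4 ≃ Fin 4 × Fin 4 :=
    { toFun := fun p => (σ p.2, σ p.1)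
      invFun := fun p => (σ p.2, σ p.1)
      left_inv := fun p => by simp [hσ]
      right_inv := fun p => by simp [hσ] }
  have h1 := rel16 hK j (c := fun p => c (e p)) (fun x hx hxx => by
    refine Eq.trans ?_ (h x hx hxx)
    refine Fintype.sum_equiv e _ _ fun p => ?_
    have : F16 q j x p = G16 q j x (e p) := by
      change j (x p.1) * j (x p.2 ^ q) = j (x (σ (σ p.2)) ^ q) * j (x (σ (σ p.1)))
      rw [hσ, hσ, mul_comm]
    rw [this]) h01
  funext p
  have h2 := congrFun h1 (e.symm p)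
  simpa using h2

section main

variable {hK : Fintype.card K = q ^ 2} {W : WFrame (PU hK N) m} {V : Type*} [AddCommGroup V] [Module k V]
  [FiniteDimensional k V] {j : K →+* k} {θ : Fin m → ℕ} {vv : (Fin m → Fin N → K) → V}
  {ff : (Fin m → Fin N → K) → Module.Dual k V}

theorem ex_zero {x : Fin 4 → K} (h : ex x = 0) : x = 0 := by
  have h0 := congrFun h 0
  have h1 := congrFun h 1
  have h2 := congrFun h 2
  have h3 := congrFun h 3
  funext i
  fin_cases i
  · exact h0
  · exact h1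
  · exact h2
  · exact h3

theorem le_fourteen (W : WFrame (PU hK N) m) (hm : 2 ≤ m) (h : IsKer q 1 j θ vv ff)
    (hθ : θ ⟨0, by omega⟩ = 1 + q) (h0 : ∀ i : Fin m, (i : ℕ) ≠ 0 → θ i = 0) : 14 ≤ Module.finrank k V := by
  have hp : ∀ x : {x : Fin 4 → K // x ≠ 0 ∧ h4 q x x = 0},
      PFr (m := m) q 1 (fun _ => vec W hm 0 (ex x.1)) := by
    rintro ⟨x, hx, hxx⟩
    exact pfr_one (by omega) (by rw [herm_vec W hm (orth_zero W), hf_ex]; exact hxx)
      (vec_ne W hm (orth_zero W) (Or.inl rfl) (fun h => hx (ex_zero h)))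
  have key := h.sylvester (X := {x : Fin 4 → K // x ≠ 0 ∧ h4 q x x = 0})
    (Y := {x : Fin 4 → K // x ≠ 0 ∧ h4 q x x = 0}) (α := Fin 4 × Fin 4) (S := {(0, 1)}) (S' := {(0, 1)})
    (f := fun x _ => vec W hm 0 (ex x.1)) (g := fun x _ => vec W hm 0 (ex x.1)) hp hp
    (F := fun x => F16 q j x.1) (G := fun y => G16 q j y.1)
    (fun x y => by
      rw [prod_eq j (by omega) h0, hθ, herm_vec W hm (orth_zero W), hf_ex]
      exact norm_eq hK j _ _)
    (fun c hc hc1 => rel16 hK j (fun x hx hxx => hc ⟨x, hx, hxx⟩) (hc1 _ (Finset.mem_singleton_self _)))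
    (fun c hc hc1 => rel16' hK j (fun x hx hxx => hc ⟨x, hx, hxx⟩) (hc1 _ (Finset.mem_singleton_self _)))
  simp only [Fintype.card_prod, Fintype.card_fin, Finset.card_singleton] at key
  omega

/-- **Node 0, weight `p^a (1 + q)`.** -/
theorem node0_adj {p : ℕ} [Fact p.Prime] [CharP K p] (W : WFrame (PU hK N) m) (hm : 2 ≤ m)
    (h : IsKer q 1 j θ vv ff) {a f : ℕ} (hq : q = p ^ f) (hθ : θ ⟨0, by omega⟩ = p ^ a + p ^ (a + f))
    (h0 : ∀ i : Fin m, (i : ℕ) ≠ 0 → θ i = 0) : 14 ≤ Module.finrank k V := by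
  have ht := h.twist (p := p) a (θ' := fun i => if (i : ℕ) = 0 then 1 + q else 0) (by
    intro i
    by_cases hi : (i : ℕ) = 0
    · have : i = ⟨0, by omega⟩ := Fin.ext hi
      rw [this, hθ]
      simp [hq, pow_add, mul_add]
    · rw [h0 i hi, if_neg hi, mul_zero])
  exact le_fourteen W hm ht rfl (fun i hi => if_neg hi)

end main

end Cfsg.Agent.H887.D3
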