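import Cfsg.Agent.H887.D3.Vec

/-!
# `SU_N(q)`, node `0`, weight `2 p^a` (helper887)

`node0_two`: the kernel `j (h x y)^(2 p^a)` on isotropic vectors (`p ≠ 2`) has rank `10` for `N = 4`
and at least `13` (in fact `15`) for `N ≥ 5`.
-/

set_option autoImplicit false
set_option linter.unusedSectionVars false

namespace Cfsg.Agent.H887.D3

open Cfsg Cfsg.Geo Matrix Cfsg.Agent.H876.D3
open LieClassical.HermBasic LieClassical.HermSiegel Cfsg.Agent.TitsThree.KSideU Cfsg.Agent.TitsThree.KSideUDesc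
  Cfsg.Agent.TitsThree.WBridge Cfsg.Agent.TitsThree.SiegelGen Cfsg.Agent.TitsThree.Siegel Cfsg.Agent.H61.SUCross
  Cfsg.Agent.TitsThree.WittFrame

variable {K : Type} [Field K] [Fintype K] {N q m : ℕ} {k : Type*} [Field k]

/-- quadratic relations on the isotropic vectors -/
def Q2 (j : K →+* k) (s : Fin 5 → Fin 5 → k) (x : Fin 5 → K) : k :=
  ∑ a, ∑ b, s a b * (j (x a) * j (x b))

theorem rel4 (hK : Fintype.card K = q ^ 2) (j : K →+* k) {η : K} {s : Fin 5 → Fin 5 → k}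
    (h : ∀ x : Fin 5 → K, x ≠ 0 → x 4 = 0 → hf q η x x = 0 → Q2 j s x = 0) :
    (∀ a : Fin 5, a ≠ 4 → s a a = 0) ∧ ∀ a b : Fin 5, a ≠ 4 → b ≠ 4 → s a b + s b a = 0 := by
  have z := zero_pow_q (F := K) hK
  obtain ⟨ε, hε0, hε⟩ := ex_eps hK
  have hj : j ε ≠ 0 := (map_ne_zero j).2 hε0
  have d0 := h ![1, 0, 0, 0, 0] (by simp) (by simp) (by simp [hf, z])
  have d1 := h ![0, 1, 0, 0, 0] (by simp) (by simp) (by simp [hf, z])
  have d2 := h ![0, 0, 1, 0, 0] (by simp) (by simp) (by simp [hf, z])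
  have d3 := h ![0, 0, 0, 1, 0] (by simp) (by simp) (by simp [hf, z])
  have e01 := h ![1, ε, 0, 0, 0] (by simp) (by simp) (by simp [hf, z, hε])
  have e02 := h ![1, 0, 1, 0, 0] (by simp) (by simp) (by simp [hf, z])
  have e03 := h ![1, 0, 0, 1, 0] (by simp) (by simp) (by simp [hf, z])
  have e12 := h ![0, 1, 1, 0, 0] (by simp) (by simp) (by simp [hf, z])
  have e13 := h ![0, 1, 0, 1, 0] (by simp) (by simp) (by simp [hf, z])
  have e23 := h ![0, 0, 1, ε, 0] (by simp) (by simp) (by simp [hf, z, hε])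
  simp [Q2, Fin.sum_univ_succ] at d0 d1 d2 d3 e01 e02 e03 e12 e13 e23
  rw [d0, d1] at e01
  rw [d0, d2] at e02
  rw [d0, d3] at e03
  rw [d1, d2] at e12
  rw [d1, d3] at e13
  rw [d2, d3] at e23
  have f01 : s 0 1 + s 1 0 = 0 := by
    have : (s 0 1 + s 1 0) * j ε = 0 := by linear_combination e01
    exact (mul_eq_zero.1 this).resolve_right hj
  have f23 : s 2 3 + s 3 2 = 0 := by
    have : (s 2 3 + s 3 2) * j ε = 0 := by linear_combination e23
    exact (mul_eq_zero.1 this).resolve_right hj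
  have f02 : s 0 2 + s 2 0 = 0 := by linear_combination e02
  have f03 : s 0 3 + s 3 0 = 0 := by linear_combination e03
  have f12 : s 1 2 + s 2 1 = 0 := by linear_combination e12
  have f13 : s 1 3 + s 3 1 = 0 := by linear_combination e13
  constructor
  · intro a ha
    fin_cases a
    · exact d0
    · exact d1
    · exact d2
    · exact d3
    · exact absurd rfl ha
  · have key : ∀ a b : Fin 5, a < b → b ≠ 4 → s a b + s b a = 0 := by
      intro a b hab hb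
      fin_cases a <;> fin_cases b <;>
        first
        | exact f01
        | exact f02
        | exact f03
        | exact f12
        | exact f13
        | exact f23
        | exact absurd rfl hb
        | exact absurd hab (by decide)
    intro a b ha hb
    rcases lt_trichotomy a b with hab | hab | hab
    · exact key a b hab hb
    · subst hab
      have : s a a = 0 := by
        fin_cases a
        · exact d0
        · exact d1
        · exact d2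
        · exact d3
        · exact absurd rfl ha
      rw [this, add_zero]
    · rw [add_comm]
      exact key b a hab ha

theorem rel5 (hK : Fintype.card K = q ^ 2) (h2 : (2 : K) ≠ 0) (j : K →+* k) {η : K} (hη : η ≠ 0)
    (hηq : η ^ q = η) {s : Fin 5 → Fin 5 → k}
    (h : ∀ x : Fin 5 → K, x ≠ 0 → hf q η x x = 0 → Q2 j s x = 0) :
    (∀ a : Fin 5, s a a = 0) ∧ ∀ a b : Fin 5, s a b + s b a = 0 := by
  have z := zero_pow_q (F := K) hK
  obtain ⟨r1, r2⟩ := rel4 hK j (fun x hx _ hxx => h x hx hxx)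
  obtain ⟨ε, hε0, hε⟩ := ex_eps hK
  have hj : j ε ≠ 0 := (map_ne_zero j).2 hε0
  have h2k : (2 : k) ≠ 0 := by
    have := (map_ne_zero j).2 h2
    rwa [map_ofNat] at this
  obtain ⟨μ, hμ, hμq⟩ : ∃ μ : K, 2 * μ = -η ∧ μ ^ q = μ := by
    refine ⟨-η / 2, by field_simp, ?_⟩
    have h2q : (2 : K) ^ q = 2 := by
      rw [← one_add_one_eq_two, add_pow_q hK, one_pow]
    rw [div_pow, neg_pow_q hK, hηq, h2q]
  have hm1 : (-1 : K) ^ q = -1 := by rw [neg_pow_q hK, one_pow]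
  have hμε : (μ + ε) ^ q = μ - ε := by rw [add_pow_q hK, hμq, hε]; ring
  have r00 := r1 0 (by decide)
  have r11 := r1 1 (by decide)
  have r22 := r1 2 (by decide)
  have r33 := r1 3 (by decide)
  have r01 := r2 0 1 (by decide) (by decide)
  have r23 := r2 2 3 (by decide) (by decide)
  have a1 := h ![1, μ, 0, 0, 1] (by simp) (by simp [hf, z, hμq]; linear_combination hμ)
  have a2 := h ![1, μ, 0, 0, -1] (by simp) (by simp [hf, z, hμq, hm1]; linear_combination hμ)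
  have a3 := h ![1, μ + ε, 0, 0, 1] (by simp) (by simp [hf, z, hμε]; linear_combination hμ)
  have b1 := h ![0, 0, 1, μ, 1] (by simp) (by simp [hf, z, hμq]; linear_combination hμ)
  have b2 := h ![0, 0, 1, μ, -1] (by simp) (by simp [hf, z, hμq, hm1]; linear_combination hμ)
  have b3 := h ![0, 0, 1, μ + ε, 1] (by simp) (by simp [hf, z, hμε]; linear_combination hμ)
  simp [Q2, Fin.sum_univ_succ] at a1 a2 a3 b1 b2 b3
  have t44 : s 4 4 = 0 := by
    have : 2 * s 4 4 = 0 := by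
      linear_combination a1 + a2 - 2 * r00 - 2 * j μ * j μ * r11 - 2 * j μ * r01
    exact (mul_eq_zero.1 this).resolve_left h2k
  have t14 : s 1 4 + s 4 1 = 0 := by
    have : (s 1 4 + s 4 1) * j ε = 0 := by
      linear_combination a3 - a1 - j ε * r01 - (2 * j μ * j ε + j ε * j ε) * r11
    exact (mul_eq_zero.1 this).resolve_right hj
  have t04 : s 0 4 + s 4 0 = 0 := by
    linear_combination a1 - r00 - j μ * r01 - j μ * j μ * r11 - j μ * t14 - t44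
  have t34 : s 3 4 + s 4 3 = 0 := by
    have : (s 3 4 + s 4 3) * j ε = 0 := by
      linear_combination b3 - b1 - j ε * r23 - (2 * j μ * j ε + j ε * j ε) * r33
    exact (mul_eq_zero.1 this).resolve_right hj
  have t24 : s 2 4 + s 4 2 = 0 := by
    linear_combination b1 - r22 - j μ * r23 - j μ * j μ * r33 - j μ * t34 - t44
  have d : ∀ a : Fin 5, s a a = 0 := by
    intro a
    by_cases ha : a = 4
    · rw [ha]; exact t44
    · exact r1 a ha
  refine ⟨d, fun a b => ?_⟩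
  have key : ∀ a : Fin 5, s a 4 + s 4 a = 0 := by
    intro a
    fin_cases a
    · exact t04
    · exact t14
    · exact t24
    · exact t34
    · change s 4 4 + s 4 4 = 0
      rw [t44, add_zero]
  by_cases ha : a = 4
  · rw [ha, add_comm]; exact key b
  · by_cases hb : b = 4
    · rw [hb]; exact key a
    · exact r2 a b ha hb

/-- the products of two coordinates -/
def F15 (j : K →+* k) (x : Fin 5 → K) : Fin 15 → k :=
  ![j (x 0) * j (x 0), j (x 1) * j (x 1), j (x 2) * j (x 2), j (x 3) * j (x 3), j (x 4) * j (x 4),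
    j (x 0) * j (x 1), j (x 0) * j (x 2), j (x 0) * j (x 3), j (x 0) * j (x 4), j (x 1) * j (x 2),
    j (x 1) * j (x 3), j (x 1) * j (x 4), j (x 2) * j (x 3), j (x 2) * j (x 4), j (x 3) * j (x 4)]

/-- the coefficients -/
def G15 (e : k) (j : K →+* k) (y : Fin 5 → K) : Fin 15 → k :=
  ![j (y 1) * j (y 1), j (y 0) * j (y 0), j (y 3) * j (y 3), j (y 2) * j (y 2), e * e * (j (y 4) * j (y 4)),
    2 * (j (y 0) * j (y 1)), 2 * (j (y 1) * j (y 3)), 2 * (j (y 1) * j (y 2)), 2 * e * (j (y 1) * j (y 4)),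
    2 * (j (y 0) * j (y 3)), 2 * (j (y 0) * j (y 2)), 2 * e * (j (y 0) * j (y 4)), 2 * (j (y 2) * j (y 3)),
    2 * e * (j (y 3) * j (y 4)), 2 * e * (j (y 2) * j (y 4))]

theorem sq_eq (hK : Fintype.card K = q ^ 2) (j : K →+* k) (η : K) (x y : Fin 5 → K) :
    j (hf q η x y) ^ 2 = ∑ a, F15 j x a * G15 (j η) (jb hK j) y a := by
  simp only [hf, F15, G15, Fin.sum_univ_succ, map_add, map_mul, jb_apply]
  simp
  ring

theorem sum15 (f : Fin 15 → k) : ∑ a, f a = f 0 + f 1 + f 2 + f 3 + f 4 + f 5 + f 6 + f 7 + f 8 + f 9 + f 10 +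
    f 11 + f 12 + f 13 + f 14 := by
  simp only [Fin.sum_univ_succ, Fin.sum_univ_zero]
  simp only [add_zero, ← add_assoc]
  rfl

theorem F15_rel {j : K →+* k} {X : (Fin 5 → K) → Prop}
    (hX : ∀ s : Fin 5 → Fin 5 → k, (∀ x, X x → Q2 j s x = 0) →
      (∀ a : Fin 5, s a a = 0) ∧ ∀ a b : Fin 5, s a b + s b a = 0)
    {c : Fin 15 → k} (hc : ∀ x, X x → ∑ a, F15 j x a * c a = 0) : c = 0 := by
  obtain ⟨h1, h2⟩ := hX ![![c 0, c 5, c 6, c 7, c 8], ![0, c 1, c 9, c 10, c 11], ![0, 0, c 2, c 12, c 13],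
    ![0, 0, 0, c 3, c 14], ![0, 0, 0, 0, c 4]] (by
      intro x hx
      refine Eq.trans ?_ (hc x hx)
      rw [sum15]
      unfold Q2
      simp only [Fin.sum_univ_five]
      simp only [F15, Matrix.cons_val]
      ring)
  have e0 : c 0 = 0 := h1 0
  have e1 : c 1 = 0 := h1 1
  have e2 : c 2 = 0 := h1 2
  have e3 : c 3 = 0 := h1 3
  have e4 : c 4 = 0 := h1 4
  have e5 : c 5 + 0 = 0 := h2 0 1
  have e6 : c 6 + 0 = 0 := h2 0 2
  have e7 : c 7 + 0 = 0 := h2 0 3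
  have e8 : c 8 + 0 = 0 := h2 0 4
  have e9 : c 9 + 0 = 0 := h2 1 2
  have e10 : c 10 + 0 = 0 := h2 1 3
  have e11 : c 11 + 0 = 0 := h2 1 4
  have e12 : c 12 + 0 = 0 := h2 2 3
  have e13 : c 13 + 0 = 0 := h2 2 4
  have e14 : c 14 + 0 = 0 := h2 3 4
  rw [add_zero] at e5 e6 e7 e8 e9 e10 e11 e12 e13 e14
  funext a
  fin_cases a <;> assumption

theorem G15_rel {j : K →+* k} {e : k} (he : e ≠ 0) (h2k : (2 : k) ≠ 0) {X : (Fin 5 → K) → Prop}
    (hX : ∀ s : Fin 5 → Fin 5 → k, (∀ x, X x → Q2 j s x = 0) →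
      (∀ a : Fin 5, s a a = 0) ∧ ∀ a b : Fin 5, s a b + s b a = 0)
    {c : Fin 15 → k} (hc : ∀ x, X x → ∑ a, G15 e j x a * c a = 0) : c = 0 := by
  obtain ⟨h1, h2⟩ := hX ![![c 1, 2 * c 5, 2 * c 10, 2 * c 9, 2 * e * c 11],
    ![0, c 0, 2 * c 7, 2 * c 6, 2 * e * c 8], ![0, 0, c 3, 2 * c 12, 2 * e * c 14],
    ![0, 0, 0, c 2, 2 * e * c 13], ![0, 0, 0, 0, e * e * c 4]] (by
      intro x hx
      refine Eq.trans ?_ (hc x hx)
      rw [sum15]
      unfold Q2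
      simp only [Fin.sum_univ_five]
      simp only [G15, Matrix.cons_val]
      ring)
  have h2e : 2 * e ≠ 0 := mul_ne_zero h2k he
  have hee : e * e ≠ 0 := mul_ne_zero he he
  have d0 : c 1 = 0 := h1 0
  have d1 : c 0 = 0 := h1 1
  have d2 : c 3 = 0 := h1 2
  have d3 : c 2 = 0 := h1 3
  have d4 : e * e * c 4 = 0 := h1 4
  have e1 : 2 * c 5 + 0 = 0 := h2 0 1
  have e2 : 2 * c 10 + 0 = 0 := h2 0 2
  have e3 : 2 * c 9 + 0 = 0 := h2 0 3
  have e4 : 2 * e * c 11 + 0 = 0 := h2 0 4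
  have e5 : 2 * c 7 + 0 = 0 := h2 1 2
  have e6 : 2 * c 6 + 0 = 0 := h2 1 3
  have e7 : 2 * e * c 8 + 0 = 0 := h2 1 4
  have e8 : 2 * c 12 + 0 = 0 := h2 2 3
  have e9 : 2 * e * c 14 + 0 = 0 := h2 2 4
  have e10 : 2 * e * c 13 + 0 = 0 := h2 3 4
  rw [add_zero, mul_eq_zero] at e1 e2 e3 e4 e5 e6 e7 e8 e9 e10
  rw [mul_eq_zero] at d4
  replace d4 := d4.resolve_left hee
  replace e1 := e1.resolve_left h2k
  replace e2 := e2.resolve_left h2k
  replace e3 := e3.resolve_left h2k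
  replace e4 := e4.resolve_left h2e
  replace e5 := e5.resolve_left h2k
  replace e6 := e6.resolve_left h2k
  replace e7 := e7.resolve_left h2e
  replace e8 := e8.resolve_left h2k
  replace e9 := e9.resolve_left h2e
  replace e10 := e10.resolve_left h2e
  funext a
  fin_cases a <;> assumption

theorem sum10 (f : Fin 10 → k) : ∑ a, f a = f 0 + f 1 + f 2 + f 3 + f 4 + f 5 + f 6 + f 7 + f 8 + f 9 := by
  simp only [Fin.sum_univ_succ, Fin.sum_univ_zero]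
  simp only [add_zero, ← add_assoc]
  rfl

/-- the products of two coordinates, four coordinates -/
def F10 (j : K →+* k) (x : Fin 5 → K) : Fin 10 → k :=
  ![j (x 0) * j (x 0), j (x 1) * j (x 1), j (x 2) * j (x 2), j (x 3) * j (x 3),
    j (x 0) * j (x 1), j (x 0) * j (x 2), j (x 0) * j (x 3), j (x 1) * j (x 2),
    j (x 1) * j (x 3), j (x 2) * j (x 3)]

/-- the coefficients -/
def G10 (j : K →+* k) (y : Fin 5 → K) : Fin 10 → k :=
  ![j (y 1) * j (y 1), j (y 0) * j (y 0), j (y 3) * j (y 3), j (y 2) * j (y 2),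
    2 * (j (y 0) * j (y 1)), 2 * (j (y 1) * j (y 3)), 2 * (j (y 1) * j (y 2)),
    2 * (j (y 0) * j (y 3)), 2 * (j (y 0) * j (y 2)), 2 * (j (y 2) * j (y 3))]

theorem sq_eq4 (hK : Fintype.card K = q ^ 2) (j : K →+* k) (η : K) (x y : Fin 5 → K) (hx : x 4 = 0) :
    j (hf q η x y) ^ 2 = ∑ a, F10 j x a * G10 (jb hK j) y a := by
  rw [sum10]
  simp only [hf, F10, G10, map_add, map_mul, jb_apply, hx, Matrix.cons_val, mul_zero, zero_mul, add_zero]
  ring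

theorem F10_rel {j : K →+* k} {X : (Fin 5 → K) → Prop} (hX4 : ∀ x, X x → x 4 = 0)
    (hX : ∀ s : Fin 5 → Fin 5 → k, (∀ x, X x → Q2 j s x = 0) →
      (∀ a : Fin 5, a ≠ 4 → s a a = 0) ∧ ∀ a b : Fin 5, a ≠ 4 → b ≠ 4 → s a b + s b a = 0)
    {c : Fin 10 → k} (hc : ∀ x, X x → ∑ a, F10 j x a * c a = 0) : c = 0 := by
  obtain ⟨h1, h2⟩ := hX ![![c 0, c 4, c 5, c 6, 0], ![0, c 1, c 7, c 8, 0], ![0, 0, c 2, c 9, 0],
    ![0, 0, 0, c 3, 0], ![0, 0, 0, 0, 0]] (by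
      intro x hx
      refine Eq.trans ?_ (hc x hx)
      rw [sum10]
      unfold Q2
      simp only [Fin.sum_univ_five]
      simp only [F10, Matrix.cons_val, hX4 x hx, map_zero]
      ring)
  have e0 : c 0 = 0 := h1 0 (by decide)
  have e1 : c 1 = 0 := h1 1 (by decide)
  have e2 : c 2 = 0 := h1 2 (by decide)
  have e3 : c 3 = 0 := h1 3 (by decide)
  have e4 : c 4 + 0 = 0 := h2 0 1 (by decide) (by decide)
  have e5 : c 5 + 0 = 0 := h2 0 2 (by decide) (by decide)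
  have e6 : c 6 + 0 = 0 := h2 0 3 (by decide) (by decide)
  have e7 : c 7 + 0 = 0 := h2 1 2 (by decide) (by decide)
  have e8 : c 8 + 0 = 0 := h2 1 3 (by decide) (by decide)
  have e9 : c 9 + 0 = 0 := h2 2 3 (by decide) (by decide)
  rw [add_zero] at e4 e5 e6 e7 e8 e9
  funext a
  fin_cases a <;> assumption

theorem G10_rel {j : K →+* k} (h2k : (2 : k) ≠ 0) {X : (Fin 5 → K) → Prop} (hX4 : ∀ x, X x → x 4 = 0)
    (hX : ∀ s : Fin 5 → Fin 5 → k, (∀ x, X x → Q2 j s x = 0) →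
      (∀ a : Fin 5, a ≠ 4 → s a a = 0) ∧ ∀ a b : Fin 5, a ≠ 4 → b ≠ 4 → s a b + s b a = 0)
    {c : Fin 10 → k} (hc : ∀ x, X x → ∑ a, G10 j x a * c a = 0) : c = 0 := by
  obtain ⟨h1, h2⟩ := hX ![![c 1, 2 * c 4, 2 * c 8, 2 * c 7, 0], ![0, c 0, 2 * c 6, 2 * c 5, 0],
    ![0, 0, c 3, 2 * c 9, 0], ![0, 0, 0, c 2, 0], ![0, 0, 0, 0, 0]] (by
      intro x hx
      refine Eq.trans ?_ (hc x hx)
      rw [sum10]
      unfold Q2
      simp only [Fin.sum_univ_five]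
      simp only [G10, Matrix.cons_val, hX4 x hx, map_zero]
      ring)
  have d0 : c 1 = 0 := h1 0 (by decide)
  have d1 : c 0 = 0 := h1 1 (by decide)
  have d2 : c 3 = 0 := h1 2 (by decide)
  have d3 : c 2 = 0 := h1 3 (by decide)
  have e1 : 2 * c 4 + 0 = 0 := h2 0 1 (by decide) (by decide)
  have e2 : 2 * c 8 + 0 = 0 := h2 0 2 (by decide) (by decide)
  have e3 : 2 * c 7 + 0 = 0 := h2 0 3 (by decide) (by decide)
  have e4 : 2 * c 6 + 0 = 0 := h2 1 2 (by decide) (by decide)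
  have e5 : 2 * c 5 + 0 = 0 := h2 1 3 (by decide) (by decide)
  have e6 : 2 * c 9 + 0 = 0 := h2 2 3 (by decide) (by decide)
  rw [add_zero, mul_eq_zero] at e1 e2 e3 e4 e5 e6
  replace e1 := e1.resolve_left h2k
  replace e2 := e2.resolve_left h2k
  replace e3 := e3.resolve_left h2k
  replace e4 := e4.resolve_left h2k
  replace e5 := e5.resolve_left h2k
  replace e6 := e6.resolve_left h2k
  funext a
  fin_cases a <;> assumption

section main

variable {hK : Fintype.card K = q ^ 2} {W : WFrame (PU hK N) m} {V : Type*} [AddCommGroup V] [Module k V]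
  [FiniteDimensional k V] {j : K →+* k} {θ : Fin m → ℕ} {vv : (Fin m → Fin N → K) → V}
  {ff : (Fin m → Fin N → K) → Module.Dual k V}

theorem le_ten (W : WFrame (PU hK N) m) (hm : 2 ≤ m) (h : IsKer q 1 j θ vv ff) (h2 : (2 : K) ≠ 0)
    (hθ : θ ⟨0, by omega⟩ = 2) (h0 : ∀ i : Fin m, (i : ℕ) ≠ 0 → θ i = 0) : 10 ≤ Module.finrank k V := by
  have h2k : (2 : k) ≠ 0 := by
    have := (map_ne_zero j).2 h2
    rwa [map_ofNat] at this
  have hX : ∀ j' : K →+* k, ∀ s : Fin 5 → Fin 5 → k,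
      (∀ x, (x ≠ 0 ∧ x 4 = 0 ∧ hf q 0 x x = 0) → Q2 j' s x = 0) →
      (∀ a : Fin 5, a ≠ 4 → s a a = 0) ∧ ∀ a b : Fin 5, a ≠ 4 → b ≠ 4 → s a b + s b a = 0 :=
    fun j' s hs => rel4 hK j' (fun x hx h4 hxx => hs x ⟨hx, h4, hxx⟩)
  have hz : hermForm N K q 0 0 = 0 := herm_zero_left _
  have hp : ∀ x : {x : Fin 5 → K // x ≠ 0 ∧ x 4 = 0 ∧ hf q 0 x x = 0},
      PFr (m := m) q 1 (fun _ => vec W hm 0 x.1) := by
    rintro ⟨x, hx, h4, hxx⟩
    exact pfr_one (by omega) (by rw [herm_vec W hm (orth_zero W), hz]; exact hxx)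
      (vec_ne W hm (orth_zero W) (Or.inl h4) hx)
  have key := h.sylvester (X := {x : Fin 5 → K // x ≠ 0 ∧ x 4 = 0 ∧ hf q 0 x x = 0})
    (Y := {x : Fin 5 → K // x ≠ 0 ∧ x 4 = 0 ∧ hf q 0 x x = 0}) (α := Fin 10) (S := ∅) (S' := ∅)
    (f := fun x _ => vec W hm 0 x.1) (g := fun x _ => vec W hm 0 x.1) hp hp
    (F := fun x => F10 j x.1) (G := fun y => G10 (jb hK j) y.1)
    (fun x y => by
      rw [prod_eq j (by omega) h0, hθ, herm_vec W hm (orth_zero W), hz]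
      exact sq_eq4 hK j 0 _ _ x.2.2.1)
    (fun c hc _ => F10_rel (fun x hx => hx.2.1) (hX j) (fun x hx => hc ⟨x, hx⟩))
    (fun c hc _ => G10_rel h2k (fun x hx => hx.2.1) (hX (jb hK j)) (fun x hx => hc ⟨x, hx⟩))
  simpa using key

theorem le_fifteen (W : WFrame (PU hK N) m) (hm : 2 ≤ m) (hN : 5 ≤ N) (h : IsKer q 1 j θ vv ff) (h2 : (2 : K) ≠ 0)
    (hθ : θ ⟨0, by omega⟩ = 2) (h0 : ∀ i : Fin m, (i : ℕ) ≠ 0 → θ i = 0) : 15 ≤ Module.finrank k V := by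
  have h2k : (2 : k) ≠ 0 := by
    have := (map_ne_zero j).2 h2
    rwa [map_ofNat] at this
  obtain ⟨d, hd0, hd⟩ := ex_d W hm hN
  obtain ⟨η, hη⟩ : ∃ η, η = hermForm N K q d d := ⟨_, rfl⟩
  have hη0 : η ≠ 0 := hη ▸ hd0
  have hηq : η ^ q = η := by rw [hη, ← herm_swap hK]
  have hX : ∀ j' : K →+* k, ∀ s : Fin 5 → Fin 5 → k,
      (∀ x, (x ≠ 0 ∧ hf q η x x = 0) → Q2 j' s x = 0) →
      (∀ a : Fin 5, s a a = 0) ∧ ∀ a b : Fin 5, s a b + s b a = 0 :=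
    fun j' s hs => rel5 hK h2 j' hη0 hηq (fun x hx hxx => hs x ⟨hx, hxx⟩)
  have hp : ∀ x : {x : Fin 5 → K // x ≠ 0 ∧ hf q η x x = 0},
      PFr (m := m) q 1 (fun _ => vec W hm d x.1) := by
    rintro ⟨x, hx, hxx⟩
    exact pfr_one (by omega) (by rw [herm_vec W hm hd, ← hη]; exact hxx)
      (vec_ne W hm hd (Or.inr hd0) hx)
  have key := h.sylvester (X := {x : Fin 5 → K // x ≠ 0 ∧ hf q η x x = 0})
    (Y := {x : Fin 5 → K // x ≠ 0 ∧ hf q η x x = 0}) (α := Fin 15) (S := ∅) (S' := ∅)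
    (f := fun x _ => vec W hm d x.1) (g := fun x _ => vec W hm d x.1) hp hp
    (F := fun x => F15 j x.1) (G := fun y => G15 (j η) (jb hK j) y.1)
    (fun x y => by
      rw [prod_eq j (by omega) h0, hθ, herm_vec W hm hd, ← hη]
      exact sq_eq hK j η _ _)
    (fun c hc _ => F15_rel (hX j) (fun x hx => hc ⟨x, hx⟩))
    (fun c hc _ => G15_rel ((map_ne_zero j).2 hη0) h2k (hX (jb hK j)) (fun x hx => hc ⟨x, hx⟩))
  simpa using key

theorem ten_le {vv : (Fin m → Fin 4 → K) → V} {ff : (Fin m → Fin 4 → K) → Module.Dual k V}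
    (h : IsKer q 1 j θ vv ff) (hm : 0 < m)
    (hθ : θ ⟨0, hm⟩ = 2) (h0 : ∀ i : Fin m, (i : ℕ) ≠ 0 → θ i = 0) : Module.finrank k V ≤ 10 := by
  have key := h.finrank_le (α := Fin 10)
    (F := fun u => ![j (u ⟨0, hm⟩ 0) * j (u ⟨0, hm⟩ 0), j (u ⟨0, hm⟩ 1) * j (u ⟨0, hm⟩ 1),
      j (u ⟨0, hm⟩ 2) * j (u ⟨0, hm⟩ 2), j (u ⟨0, hm⟩ 3) * j (u ⟨0, hm⟩ 3),
      j (u ⟨0, hm⟩ 0) * j (u ⟨0, hm⟩ 1), j (u ⟨0, hm⟩ 0) * j (u ⟨0, hm⟩ 2),
      j (u ⟨0, hm⟩ 0) * j (u ⟨0, hm⟩ 3), j (u ⟨0, hm⟩ 1) * j (u ⟨0, hm⟩ 2),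
      j (u ⟨0, hm⟩ 1) * j (u ⟨0, hm⟩ 3), j (u ⟨0, hm⟩ 2) * j (u ⟨0, hm⟩ 3)])
    (G := fun u => ![j (u ⟨0, hm⟩ 0 ^ q) * j (u ⟨0, hm⟩ 0 ^ q), j (u ⟨0, hm⟩ 1 ^ q) * j (u ⟨0, hm⟩ 1 ^ q),
      j (u ⟨0, hm⟩ 2 ^ q) * j (u ⟨0, hm⟩ 2 ^ q), j (u ⟨0, hm⟩ 3 ^ q) * j (u ⟨0, hm⟩ 3 ^ q),
      2 * (j (u ⟨0, hm⟩ 0 ^ q) * j (u ⟨0, hm⟩ 1 ^ q)), 2 * (j (u ⟨0, hm⟩ 0 ^ q) * j (u ⟨0, hm⟩ 2 ^ q)),
      2 * (j (u ⟨0, hm⟩ 0 ^ q) * j (u ⟨0, hm⟩ 3 ^ q)), 2 * (j (u ⟨0, hm⟩ 1 ^ q) * j (u ⟨0, hm⟩ 2 ^ q)),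
      2 * (j (u ⟨0, hm⟩ 1 ^ q) * j (u ⟨0, hm⟩ 3 ^ q)), 2 * (j (u ⟨0, hm⟩ 2 ^ q) * j (u ⟨0, hm⟩ 3 ^ q))])
    (fun u u' _ _ => by
      rw [prod_eq j hm h0, hθ, sum10]
      simp only [hermForm, Fin.sum_univ_four, map_add, map_mul, Matrix.cons_val]
      ring)
  simpa using key

/-- **Node 0, weight `2 p^a`.** -/
theorem node0_two {p : ℕ} [Fact p.Prime] [CharP K p] (W : WFrame (PU hK N) m) (hm : 2 ≤ m)
    (h : IsKer q 1 j θ vv ff) {a : ℕ} (hθ : θ ⟨0, by omega⟩ = 2 * p ^ a)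
    (h0 : ∀ i : Fin m, (i : ℕ) ≠ 0 → θ i = 0) (hp2 : p ≠ 2) :
    (N = 4 → Module.finrank k V = 10) ∧ (5 ≤ N → 15 ≤ Module.finrank k V) := by
  have h2 : (2 : K) ≠ 0 := by
    intro h2
    have h3 : ((2 : ℕ) : K) = 0 := by exact_mod_cast h2
    rw [CharP.cast_eq_zero_iff K p] at h3
    exact hp2 ((Nat.prime_dvd_prime_iff_eq Fact.out Nat.prime_two).1 h3)
  have ht := h.twist (p := p) a (θ' := fun i => if (i : ℕ) = 0 then 2 else 0) (by
    intro i
    by_cases hi : (i : ℕ) = 0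
    · have : i = ⟨0, by omega⟩ := Fin.ext hi
      rw [this, hθ]
      simp [mul_comm]
    · rw [h0 i hi, if_neg hi, mul_zero])
  have e1 : (fun i : Fin m => if (i : ℕ) = 0 then 2 else 0) ⟨0, by omega⟩ = 2 := rfl
  have e2 : ∀ i : Fin m, (i : ℕ) ≠ 0 → (fun i : Fin m => if (i : ℕ) = 0 then 2 else 0) i = 0 :=
    fun i hi => if_neg hi
  constructor
  · rintro rfl
    exact le_antisymm (ten_le ht (by omega) e1 e2) (le_ten W hm ht h2 e1 e2)
  · intro hN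
    exact le_fifteen W hm hN ht h2 e1 e2

end main

end Cfsg.Agent.H887.D3
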