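import Cfsg.Agent.H876.D3.Kern

/-!
# Elements of the torus of `SU_N(q)` (helper887)

* `scM` : the isometry scaling a hyperbolic pair;
* `exists_t0` : `t ∈ T` with `dl 0 t = x`; `exists_t1` : `t ∈ T` with `dl i t = x` for all `i`, `V0 = ⟨d⟩`.
-/

set_option autoImplicit false
set_option linter.unusedSectionVars false

namespace Cfsg.Agent.H887.D3

open Cfsg Cfsg.Geo Matrix
open LieClassical.HermBasic LieClassical.HermSiegel Cfsg.Agent.TitsThree.KSideU Cfsg.Agent.TitsThree.KSideUDesc
  Cfsg.Agent.TitsThree.WBridge Cfsg.Agent.TitsThree.SiegelGen Cfsg.Agent.TitsThree.Siegel Cfsg.Agent.H61.SUCross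
  Cfsg.Agent.TitsThree.WittFrame Cfsg.Agent.Nodes.WittAll Cfsg.Agent.Nodes Cfsg.Agent.Nodes.WittRGD
  Cfsg.Agent.Nodes.WittRoot
open Cfsg.Agent.ClassicalGeometry.UnitTransv (rankOne rankOne_mulVec det_rankOne)
open Cfsg.Agent.H876.D3 (dl dl_one cf two_le_q hb_iso hb_pair Dl_mul_diag Dl_one Dl)

section pair

variable {K : Type} [Field K] [Fintype K] {N q : ℕ}

/-- a hyperbolic pair -/
structure Hyp (q : ℕ) (e f : Fin N → K) : Prop where
  ee : hermForm N K q e e = 0
  ff : hermForm N K q f f = 0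
  ef : hermForm N K q e f = 1
  fe : hermForm N K q f e = 1

/-- scaling a hyperbolic pair -/
noncomputable def scM (q : ℕ) (e f : Fin N → K) (c : K) : Matrix (Fin N) (Fin N) K :=
  rankOne q ((c - 1) • e) f * rankOne q (((c ^ q)⁻¹ - 1) • f) e

variable {e f : Fin N → K}

theorem scM_apply (h : Hyp q e f) (c : K) (x : Fin N → K) : scM q e f c *ᵥ x =
    x + (hermForm N K q x e * ((c ^ q)⁻¹ - 1)) • f + (hermForm N K q x f * (c - 1)) • e := by
  rw [scM, ← Matrix.mulVec_mulVec, rankOne_mulVec, rankOne_mulVec, herm_add_left, herm_smul_left, herm_smul_left,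
    h.ff, mul_zero, mul_zero, add_zero, smul_smul, smul_smul]

theorem scM_iso (hK : Fintype.card K = q ^ 2) (h : Hyp q e f) {c : K} (hc : c ≠ 0) (x y : Fin N → K) :
    hermForm N K q (scM q e f c *ᵥ x) (scM q e f c *ᵥ y) = hermForm N K q x y := by
  have hcq : c ^ q ≠ 0 := pow_ne_zero _ hc
  rw [scM_apply h, scM_apply h]
  simp only [herm_add_left, herm_add_right hK, herm_smul_left, herm_smul_right, h.ee, h.ff, h.ef, h.fe]
  have e1 : hermForm N K q f y = hermForm N K q y f ^ q := herm_swap hK y f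
  have e2 : hermForm N K q e y = hermForm N K q y e ^ q := herm_swap hK y e
  rw [e1, e2, mul_pow, mul_pow, sub_pow_q hK, sub_pow_q hK, one_pow, inv_pow, pow_q_pow_q hK]
  field_simp
  ring

theorem scM_det (h : Hyp q e f) (c : K) : (scM q e f c).det = c * (c ^ q)⁻¹ := by
  rw [scM, Matrix.det_mul, det_rankOne, det_rankOne, herm_smul_left, herm_smul_left, h.ef, h.fe]
  ring

theorem scM_e (h : Hyp q e f) (c : K) : scM q e f c *ᵥ e = c • e := by
  rw [scM_apply h, h.ee, h.ef, zero_mul, zero_smul, add_zero]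
  module

theorem scM_f (h : Hyp q e f) (c : K) : scM q e f c *ᵥ f = (c ^ q)⁻¹ • f := by
  rw [scM_apply h, h.ff, h.fe, zero_mul, zero_smul, add_zero]
  module

theorem scM_perp (h : Hyp q e f) (c : K) {x : Fin N → K} (h1 : hermForm N K q x e = 0)
    (h2 : hermForm N K q x f = 0) : scM q e f c *ᵥ x = x := by
  rw [scM_apply h, h1, h2, zero_mul, zero_smul, zero_mul, zero_smul, add_zero, add_zero]

/-- scaling a vector of length one -/
theorem dM_iso (hK : Fintype.card K = q ^ 2) {d : Fin N → K} (hd : hermForm N K q d d = 1) {c : K}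
    (hc : c * c ^ q = 1) (x y : Fin N → K) :
    hermForm N K q (rankOne q ((c - 1) • d) d *ᵥ x) (rankOne q ((c - 1) • d) d *ᵥ y) = hermForm N K q x y := by
  rw [rankOne_mulVec, rankOne_mulVec]
  simp only [herm_add_left, herm_add_right hK, herm_smul_left, herm_smul_right, hd]
  have e1 : hermForm N K q d y = hermForm N K q y d ^ q := herm_swap hK y d
  rw [e1, sub_pow_q hK, one_pow]
  linear_combination (hermForm N K q x d * hermForm N K q y d ^ q) * hc

end pair

section frame

variable {K : Type} [Field K] [Fintype K] {N q m : ℕ} {hK : Fintype.card K = q ^ 2} (hN : 3 ≤ N)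
  (W : WFrame (PU hK N) m)

theorem hyp (a : Fin m) : Hyp q (W.e a) (W.f a) where
  ee := W.ee a a
  ff := W.ff a a
  ef := (W.ef a a).trans (if_pos rfl)
  fe := (W.fe a a).trans (if_pos rfl)

/-- the action on the frame -/
theorem scM_b (a : Fin m) (c : K) (x : Fin m × Bool) : scM q (W.e a) (W.f a) c *ᵥ (toFrame W).b x =
    (if x.1 = a then (if x.2 then c else (c ^ q)⁻¹) else 1) • (toFrame W).b x := by
  obtain ⟨b, s⟩ := x
  by_cases h : b = a
  · subst h
    rw [if_pos rfl]
    cases s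
    · rw [if_neg (by simp)]
      exact scM_f (hyp W b) c
    · rw [if_pos rfl]
      exact scM_e (hyp W b) c
  · rw [if_neg h, one_smul]
    refine scM_perp (hyp W a) c ?_ ?_
    · cases s
      · exact (hb_pair W false b a).trans (if_neg h)
      · exact hb_iso W true b a
    · cases s
      · exact hb_iso W false b a
      · exact (hb_pair W true b a).trans (if_neg h)

theorem mem_T_of {t : SU N K q} {l : Fin m × Bool → K} (hl : ∀ x, l x ≠ 0)
    (h : ∀ x, act t ((toFrame W).b x) = l x • (toFrame W).b x) : t ∈ WittModel.T (modelSU hK hN W) := by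
  rw [T_eq]
  exact ⟨⟨t, rfl⟩, fun x => ⟨l x, hl x, h x⟩⟩

theorem dl_of {t : SU N K q} {l : Fin m × Bool → K}
    (h : ∀ x, act t ((toFrame W).b x) = l x • (toFrame W).b x) (i : Fin m) :
    dl W i t = ∏ a : {a : Fin m // a ≤ i}, l (a.1, true) := by
  have h1 := Dl_mul_diag (Fr := toFrame W) (s := true) (i := i) (t := toLin K q N t) (l := fun a => l (a, true))
    (fun a _ => h (a, true)) 1
  rw [one_mul, Dl_one, mul_one] at h1
  exact h1

/-- **The torus of the first node.** -/
theorem exists_t0 (hm : 2 ≤ m) {x : K} (hx : x ≠ 0) : ∃ t ∈ WittModel.T (modelSU hK hN W),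
    dl W ⟨0, by omega⟩ t = x := by
  have hx' : x⁻¹ ≠ 0 := inv_ne_zero hx
  have hxq : x ^ q ≠ 0 := pow_ne_zero _ hx
  set a0 : Fin m := ⟨0, by omega⟩ with ha0
  set a1 : Fin m := ⟨1, by omega⟩ with ha1
  have h01 : a0 ≠ a1 := by rw [ha0, ha1]; simp [Fin.ext_iff]
  set M := scM q (W.e a0) (W.f a0) x * scM q (W.e a1) (W.f a1) x⁻¹ with hM
  have hMx : ∀ u, M *ᵥ u = scM q (W.e a0) (W.f a0) x *ᵥ (scM q (W.e a1) (W.f a1) x⁻¹ *ᵥ u) := fun u => by
    rw [hM, Matrix.mulVec_mulVec]
  have hdet : M.det = 1 := by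
    rw [hM, Matrix.det_mul, scM_det (hyp W a0), scM_det (hyp W a1), inv_pow, inv_inv]
    field_simp
  let t : SU N K q := mkSU M hdet fun u v => by
    rw [hMx, hMx, scM_iso hK (hyp W a0) hx, scM_iso hK (hyp W a1) hx']
  have ht : ∀ y, act t ((toFrame W).b y) = ((if y.1 = a0 then (if y.2 then x else (x ^ q)⁻¹) else 1) *
      (if y.1 = a1 then (if y.2 then x⁻¹ else (x⁻¹ ^ q)⁻¹) else 1)) • (toFrame W).b y := by
    intro y
    change M *ᵥ (toFrame W).b y = _
    rw [hMx, scM_b, Matrix.mulVec_smul, scM_b, smul_smul, mul_comm]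
  refine ⟨t, mem_T_of hN W (fun y => ?_) ht, ?_⟩
  · refine mul_ne_zero ?_ ?_
    · split_ifs
      · exact hx
      · exact inv_ne_zero hxq
      · exact one_ne_zero
    · split_ifs
      · exact hx'
      · exact inv_ne_zero (pow_ne_zero _ hx')
      · exact one_ne_zero
  · rw [dl_of W ht, Finset.prod_eq_single ⟨a0, le_rfl⟩]
    · rw [if_pos rfl, if_pos rfl, if_neg h01, mul_one]
    · rintro ⟨a, ha⟩ _ h1
      exfalso
      apply h1
      apply Subtype.ext
      apply Fin.ext
      have : (a : ℕ) ≤ (a0 : ℕ) := ha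
      have : (a0 : ℕ) = 0 := rfl
      simp only
      omega
    · intro h1
      exact absurd (Finset.mem_univ _) h1

/-- **The torus with an anisotropic vector.** -/
theorem exists_t1 (hm : 0 < m) {d : Fin N → K} (hd : hermForm N K q d d = 1)
    (hV : W.V0 = Submodule.span K {d}) {x : K} (hx : x ≠ 0) : ∃ t ∈ WittModel.T (modelSU hK hN W),
    ∀ i, dl W i t = x := by
  have hq := two_le_q hK
  have hxq : x ^ q ≠ 0 := pow_ne_zero _ hx
  set a0 : Fin m := ⟨0, hm⟩ with ha0
  have hdV : d ∈ W.V0 := by rw [hV]; exact Submodule.mem_span_singleton_self d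
  have hc : x ^ (q - 1) * (x ^ (q - 1)) ^ q = 1 := by
    rw [← pow_succ', ← pow_mul]
    have e1 : (q - 1) * (q + 1) = q ^ 2 - 1 := by
      have := Nat.sq_sub_sq q 1
      rw [one_pow] at this
      rw [this, mul_comm]
    rw [e1, ← hK]
    exact FiniteField.pow_card_sub_one_eq_one x hx
  set M := scM q (W.e a0) (W.f a0) x * rankOne q ((x ^ (q - 1) - 1) • d) d with hM
  have hMx : ∀ u, M *ᵥ u = scM q (W.e a0) (W.f a0) x *ᵥ (rankOne q ((x ^ (q - 1) - 1) • d) d *ᵥ u) := fun u => by
    rw [hM, Matrix.mulVec_mulVec]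
  have hdet : M.det = 1 := by
    rw [hM, Matrix.det_mul, scM_det (hyp W a0), det_rankOne, herm_smul_left, hd]
    have e1 : x ^ q = x ^ (q - 1) * x := by rw [← pow_succ, Nat.sub_add_cancel (by omega)]
    rw [e1]
    have e2 : x ^ (q - 1) ≠ 0 := pow_ne_zero _ hx
    field_simp
    ring
  let t : SU N K q := mkSU M hdet fun u v => by
    rw [hMx, hMx, scM_iso hK (hyp W a0) hx, dM_iso hK hd hc]
  have ht : ∀ y, act t ((toFrame W).b y) = (if y.1 = a0 then (if y.2 then x else (x ^ q)⁻¹) else 1) •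
      (toFrame W).b y := by
    intro y
    change M *ᵥ (toFrame W).b y = _
    have h0 : hermForm N K q ((toFrame W).b y) d = 0 := by
      obtain ⟨b, s⟩ := y
      have e1 : hermForm N K q d ((toFrame W).b (b, s)) = 0 := by
        cases s
        · exact W.V0f d hdV b
        · exact W.V0e d hdV b
      rw [herm_swap hK d, e1, zero_pow (by omega)]
    rw [hMx, rankOne_mulVec, h0, zero_smul, add_zero, scM_b]
  refine ⟨t, mem_T_of hN W (fun y => ?_) ht, fun i => ?_⟩
  · split_ifs
    · exact hx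
    · exact inv_ne_zero hxq
    · exact one_ne_zero
  · rw [dl_of W ht, Finset.prod_eq_single ⟨a0, Fin.mk_le_of_le_val (Nat.zero_le _)⟩]
    · rw [if_pos rfl, if_pos rfl]
    · rintro ⟨a, ha⟩ _ h1
      rw [if_neg]
      intro h2
      exact h1 (Subtype.ext h2)
    · intro h1
      exact absurd (Finset.mem_univ _) h1

end frame

end Cfsg.Agent.H887.D3
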