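import Cfsg.Agent.H876.D3.Main
import Cfsg.Agent.H905.MdR
import Cfsg.Agent.H887.D3.Torus

/-!
# Fields of the small modules of `SU_N(q)` (helper887)

* `setup2` : `H151.D3.setup` with the values of the highest weight in `F`;
* `card_sq` : `|F| = q ^ 2` and `¬ SD P` from the highest weight;
* **`psu4_ten`** : `N = 4`, `card ι = 10`;
* **`psu_nat`** : `card ι = N ≤ 12`, `N ≠ 5`.
-/

set_option autoImplicit false
set_option linter.unusedSectionVars false
set_option linter.style.haveILetI false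

namespace Cfsg.Agent.H887.D3

open CoxeterSystem Cfsg.Agent.ChevalleyStructure.CoxeterGeom Cfsg.Agent.Tits.Roots Cfsg.Agent.Nodes.TypeC
open Cfsg.Agent.Nodes.Comb Cfsg.Agent.Nodes.Reps Cfsg.Agent.Nodes.WittRoot Cfsg.Agent.Nodes.BNOf
open Cfsg.Agent.Nodes.WittRGD Cfsg.Agent.Nodes.RGDLib Cfsg.Agent.Nodes.WittAll Cfsg.Agent.Nodes
open Cfsg.Agent.TitsThree Cfsg.Agent.TitsThree.Siegel Cfsg.Agent.TitsThree.WittFrame
  Cfsg.Agent.TitsThree.WittWeyl Cfsg.Agent.TitsThree.FrameCN Cfsg.Agent.H905.Md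
  Cfsg.Agent.Nodes.StabComb Cfsg.Agent.Tits.Core
open Cfsg Cfsg.Geo Cfsg.Agent.H876.D3 Cfsg.Agent.H911 Cfsg.Agent.H915.LD
open LieClassical.HermBasic Cfsg.Agent.TitsThree.KSideU Cfsg.Agent.TitsThree.KSideUDesc Cfsg.Agent.Nodes.WittU
  Cfsg.Agent.TitsThree.WBridge Cfsg.Agent.TitsThree.SiegelGen Cfsg.Agent.H61.SUCross Cfsg.Agent.H61.SUNode
open Cfsg.Agent.KFacts.MulOdd.Inst (Lv)
open Cfsg.Agent.Omega.CR Cfsg.Agent.Omega.FOne.Lift.Sd Cfsg.Agent.Nodes.Bruhat Cfsg.Agent.Nodes.OppDec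
open Cfsg.Agent.H151.D3 (exists_emb exists_kind')
open scoped MatrixGroups

universe u

section

variable {F : Type u} [Field F] [Finite F] {ι : Type} [Fintype ι] [DecidableEq ι] {P : Subgroup (GL ι F)}

/-- one node -/
theorem cf_single {K : Type} [Field K] [Fintype K] {N q m : ℕ} {hK : Fintype.card K = q ^ 2}
    {W : WFrame (PU hK N) m} {k : Type*} [Field k] (j : K →+* k) {θ : Fin m → ℕ} {i : Fin m}
    (hθ : ∀ i', i' ≠ i → θ i' = 0) (g : SU N K q) : cf W j θ g = j (dl W i g) ^ θ i := by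
  unfold cf
  rw [Finset.prod_eq_single i]
  · intro a _ ha
    rw [hθ a ha, pow_zero]
  · intro h
    exact absurd (Finset.mem_univ _) h

/-- **The kernel of `P` and its highest weight.** -/
theorem setup2 (p : ℕ) [Fact p.Prime] [CharP F p] (K : Type) [Field K] [Fintype K] [CharP K p]
    {N q : ℕ} (hN : 4 ≤ N) (hK : Fintype.card K = q ^ 2) (hC : Core P) (Φ : Soc P ≃* PSU N K q) :
    ∃ (m : ℕ) (W : WFrame (PU hK N) m), 2 ≤ m ∧ Kind W ∧ (W.V0 = ⊥ → N = 2 * m) ∧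
      (W.V0 ≠ ⊥ → N = 2 * m + 1) ∧ ∃ (k : Type u) (_ : Field k) (_ : IsAlgClosed k) (_ : CharP k p)
      (j : K →+* k) (J : Set (Fin m)) (θ : Fin m → ℕ), Bd W J θ ∧ (∃ i, i ∉ J) ∧
      (∀ r, r ≤ m → 0 < r → (∀ i : Fin m, r ≤ (i : ℕ) → θ i = 0) →
        ∃ (vv : (Fin m → Fin N → K) → (ι → k)) (ff : (Fin m → Fin N → K) → Module.Dual k (ι → k)),
          IsKer q r j θ vv ff) ∧
      (∀ i : Fin m, (∀ i', i' ≠ i → θ i' = 0) → ((i : ℕ) = 0 ∨ W.V0 ≠ ⊥) →
        ∀ x : K, x ≠ 0 → (j x ^ θ i) ^ Nat.card F = j x ^ θ i) := by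
  classical
  have hN3 : 3 ≤ N := by omega
  haveI := hC.nonempty
  obtain ⟨m, W, hm, hW, hev, hodd⟩ := exists_kind' hK hN
  obtain ⟨φ, hφ, -, -⟩ := psu_cover p hC.perfect hN3 hK (by omega) Φ
  haveI hchar : CharP (AlgebraicClosure F) p := charP_of_injective_algebraMap (algebraMap F _).injective p
  obtain ⟨j⟩ := exists_emb p K (AlgebraicClosure F)
  have hm0 : 0 < m := by omega
  obtain ⟨p0, hp0, -⟩ := exists_adm hK W
  have hA : AmbT (toFrame W) p (modelSU hK hN3 W).I := AmbT.of_amb (amb_U hK W) p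
  haveI : Finite (CoxeterMatrix.B m).Group := finite_W (CoxeterMatrix.B m).toCoxeterSystem
  have R := rgdC_model (modelSU hK hN3 W) hA hp0 (CoxeterMatrix.B m).toCoxeterSystem
  have hG : GG (CoxeterMatrix.B m).toCoxeterSystem (isCartan m) (WittModel.T (modelSU hK hN3 W))
      (WittModel.X (modelSU hK hN3 W)) = ⊤ := gg_top (WittModel.G1_eq_top _ hm0 _)
  have hT := modelT_comm (M := modelSU hK hN3 W) hA (kd_su hW)
  have hirr := ac_irr R hG hT hφ hC.absIrred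
  have hirr' : ∀ L : Submodule (AlgebraicClosure F) (ι → AlgebraicClosure F), Ivt (lin (acRep φ)) ⊤ L →
      L = ⊥ ∨ L = ⊤ := by
    intro L hL
    exact hirr L (by rw [hG]; exact hL)
  obtain ⟨J, θ, hB, hJ, v, ψ, hv0, hv, hvT, hψ⟩ := exists_coef hN3 p hW hm0 j (lin (acRep φ)) hirr'
  refine ⟨m, W, hm, hW, hev, hodd, AlgebraicClosure F, inferInstance, inferInstance, hchar, j, J, θ, hB, ?_, ?_, ?_⟩
  · apply hJ
    rw [Module.finrank_fintype_fun_eq_card]
    have := hC.two_le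
    omega
  · intro r hr hr0 hθ
    exact isKer_of_coef hirr' hv0 hψ hr hr0 hθ
  · have hmem : ∀ t ∈ WittModel.T (modelSU hK hN3 W), cf W j θ t ^ Nat.card F = cf W j θ t := by
      intro t ht
      obtain ⟨a, ha⟩ := chi_mem R hG hφ hC.absIrred hv hv0 hvT ht
      have : Fintype F := Fintype.ofFinite F
      rw [← ha, ← map_pow, Nat.card_eq_fintype_card, FiniteField.pow_card]
    intro i hθ hi x hx
    have h1 : ∃ t ∈ WittModel.T (modelSU hK hN3 W), dl W i t = x := by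
      rcases hi with hi | hi
      · have h2 : i = ⟨0, by omega⟩ := Fin.ext hi
        rw [h2]
        exact exists_t0 hN3 W hm hx
      · rcases hW with h2 | ⟨d, hd, hV⟩
        · exact absurd h2 hi
        · obtain ⟨t, ht, h3⟩ := exists_t1 hN3 W hm0 hd hV hx
          exact ⟨t, ht, h3 i⟩
    obtain ⟨t, ht, h2⟩ := h1
    have h3 := hmem t ht
    rwa [cf_single j hθ, h2] at h3

/-- **The field of a core.** -/
theorem card_sq (p : ℕ) [hp : Fact p.Prime] [CharP F p] {K : Type} [Field K] [Fintype K] {q f : ℕ}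
    (hK : Fintype.card K = q ^ 2) (hf : q = p ^ f) (hC : Core P) (hcj : Cj P q) {k : Type*} [Field k] (j : K →+* k)
    {c a : ℕ} (hc : c = 1 ∨ c = 2)
    (h : ∀ x : K, x ≠ 0 → (j x ^ (c * p ^ a)) ^ Nat.card F = j x ^ (c * p ^ a)) :
    Nat.card F = q ^ 2 ∧ ¬ SD P := by
  have := Fintype.ofFinite F
  have hq := two_le_q hK
  have hp2 := hp.out.two_le
  have hf0 : f ≠ 0 := by
    rintro rfl
    rw [pow_zero] at hf
    omega
  rw [Nat.card_eq_fintype_card] at *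
  obtain ⟨e, he, hFe⟩ := FiniteField.card F p
  have h2F : 2 ≤ Fintype.card F := Fintype.one_lt_card
  -- the upper bound
  have hle : Fintype.card F ≤ p ^ (2 * f) := by
    refine hC.card_le p (by omega) ?_
    have h1 := hcj.fr
    rw [hf, ← pow_add, ← two_mul] at h1
    exact h1
  -- the divisibility
  have hdvd : q ^ 2 - 1 ∣ c * (Fintype.card F - 1) := by
    obtain ⟨g, hg⟩ := IsCyclic.exists_generator (α := Kˣ)
    have hord : orderOf g = q ^ 2 - 1 := by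
      rw [orderOf_eq_card_of_forall_mem_zpowers hg, Nat.card_units, Nat.card_eq_fintype_card, hK]
    have h1 := h (g : K) (Units.ne_zero g)
    rw [← pow_mul, ← map_pow, ← map_pow] at h1
    have h2 := j.injective h1
    have h3 : g ^ (c * p ^ a * Fintype.card F) = g ^ (c * p ^ a) := by
      ext
      push_cast
      exact h2
    have h4 : g ^ (c * p ^ a * (Fintype.card F - 1)) = 1 := by
      have h5 : c * p ^ a * Fintype.card F = c * p ^ a * (Fintype.card F - 1) + c * p ^ a := by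
        conv_lhs => rw [show Fintype.card F = (Fintype.card F - 1) + 1 by omega]
        rw [mul_add, mul_one]
      rw [h5, pow_add] at h3
      exact mul_eq_right.1 h3
    have h5 := orderOf_dvd_of_pow_eq_one h4
    rw [hord] at h5
    have h6 : (q ^ 2 - 1).Coprime (p ^ a) := by
      apply Nat.Coprime.pow_right
      rw [Nat.coprime_comm, Nat.Prime.coprime_iff_not_dvd hp.out]
      intro h7
      have h8 : p ∣ q ^ 2 := by
        rw [hf, ← pow_mul]
        exact dvd_pow_self p (by omega)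
      have h9 : p ∣ 1 := by
        have h10 := Nat.dvd_sub h8 h7
        have h11 : 1 ≤ q ^ 2 := Nat.one_le_pow _ _ (by omega)
        rwa [Nat.sub_sub_self h11] at h10
      exact hp.out.one_lt.ne' (Nat.dvd_one.1 h9)
    refine h6.dvd_of_dvd_mul_left ?_
    rw [← mul_assoc, mul_comm (p ^ a) c]
    exact h5
  have hq2 : q ^ 2 = p ^ (2 * f) := by rw [hf, ← pow_mul, mul_comm]
  have hcard : Fintype.card F = q ^ 2 := by
    rcases hle.lt_or_eq with hlt | heq
    · exfalso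
      rw [hFe] at hlt
      have h1 : (e : ℕ) < 2 * f := (Nat.pow_lt_pow_iff_right hp.out.one_lt).1 hlt
      have h2 : Fintype.card F * p ≤ q ^ 2 := by
        rw [hq2, hFe, ← pow_succ]
        exact Nat.pow_le_pow_right hp.out.pos h1
      have h3 : Fintype.card F * 2 ≤ Fintype.card F * p := Nat.mul_le_mul_left _ hp2
      have h4 := Nat.le_of_dvd (by
        rcases hc with rfl | rfl
        · omega
        · omega) hdvd
      rcases hc with rfl | rfl
      · omega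
      · omega
    · rw [heq, hq2]
  refine ⟨hcard, fun hsd => ?_⟩
  have h1 : Fr P (p ^ f) := by
    rw [← hf]
    exact Fr.of_sd_cj hsd hcj
  have h2 := hC.card_le p hf0 h1
  rw [hcard, ← hf] at h2
  nlinarith

theorem cj_psu (p : ℕ) [Fact p.Prime] [CharP F p] {K : Type} [Field K] [Fintype K] [CharP K p] {N q : ℕ}
    (hN : 4 ≤ N) (hK : Fintype.card K = q ^ 2) (hC : Core P) (Φ : Soc P ≃* PSU N K q) : Cj P q := by
  haveI := hC.nonempty
  intro g hg
  exact (psu_both p hC.absIrred hC.perfect (by omega) hK (by omega) Φ hg).2.symm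

/-- **The dimensions and the exponents.** -/
theorem dims2 {K : Type} [Field K] [Fintype K] {N q m : ℕ} {hK : Fintype.card K = q ^ 2}
    {k : Type*} [Field k] {V : Type*} [AddCommGroup V] [Module k V] [FiniteDimensional k V]
    {j : K →+* k} {θ : Fin m → ℕ} (p : ℕ) [hp : Fact p.Prime] [CharP K p] [CharP k p] (hN : 4 ≤ N) (hm : 2 ≤ m)
    (W : WFrame (PU hK N) m) (hev : W.V0 = ⊥ → N = 2 * m) (hodd : W.V0 ≠ ⊥ → N = 2 * m + 1) {J : Set (Fin m)}
    (hB : Bd W J θ) (hJ : ∃ i, i ∉ J)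
    (hker : ∀ r, r ≤ m → 0 < r → (∀ i : Fin m, r ≤ (i : ℕ) → θ i = 0) →
        ∃ (vv : (Fin m → Fin N → K) → V) (ff : (Fin m → Fin N → K) → Module.Dual k V), IsKer q r j θ vv ff)
    (h5 : N = 5 → θ ⟨1, by omega⟩ ≠ 0 → (∀ i : Fin m, (i : ℕ) ≠ 1 → θ i = 0) →
      ∀ (vv : (Fin m → Fin N → K) → V) (ff : (Fin m → Fin N → K) → Module.Dual k V), IsKer q 2 j θ vv ff →
        ((∃ a, θ ⟨1, by omega⟩ = p ^ a) ∧ Module.finrank k V = 10) ∨ 13 ≤ Module.finrank k V) :
    (∃ i : Fin m, (∀ i', i' ≠ i → θ i' = 0) ∧ ((i : ℕ) = 0 ∨ W.V0 ≠ ⊥) ∧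
      ((∃ a, θ i = 1 * p ^ a) ∧ (Module.finrank k V = N ∨ (N = 5 ∧ Module.finrank k V = 10)) ∨
        (∃ a, θ i = 2 * p ^ a) ∧ N = 4 ∧ Module.finrank k V = 10)) ∨
      (N = 4 ∧ Module.finrank k V = 6) ∨ 13 ≤ Module.finrank k V := by
  obtain ⟨i, hi⟩ := hJ
  have hθi := hB.pos i hi
  have hlt : ∀ i, θ i < q ^ 2 := by
    intro i
    have h3 := hB.le i
    have h4 : 0 < q ^ 2 := pow_pos (by have := two_le_q hK; omega) _
    omega
  by_cases huniq : ∃ i', i' ≠ i ∧ θ i' ≠ 0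
  · obtain ⟨i', hne, hi'⟩ := huniq
    obtain ⟨vv, ff, h⟩ := hker m le_rfl (by omega) (fun i hi => absurd i.2 (by omega))
    right; right
    rcases lt_or_gt_of_ne hne with h3 | h3
    · exact two_nodes p W h h3 hi' hθi (hlt _)
    · exact two_nodes p W h h3 hθi hi' (hlt _)
  push Not at huniq
  obtain ⟨vv, ff, h⟩ := hker (i + 1) (by have := i.2; omega) (by omega) (fun i' hi' => huniq i' (by
    rintro rfl
    omega))
  rcases Nat.eq_zero_or_pos (i : ℕ) with h0 | h0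
  · have hi0 : i = ⟨0, by omega⟩ := Fin.ext h0
    rw [h0] at h
    have hθ : ∀ i' : Fin m, 1 ≤ (i' : ℕ) → θ i' = 0 := fun i' h1 => huniq i' (by
      rintro rfl
      omega)
    have hθ2 : ∀ i' : Fin m, (i' : ℕ) ≠ 0 → θ i' = 0 := fun i' h1 => hθ i' (by omega)
    obtain ⟨f, hf⟩ := exists_f hK p
    rcases node0_cases p hm W h hθ (hi0 ▸ hθi) (hlt _) hf with ⟨a, ha⟩ | h1 | ⟨hp2, a, ha⟩ | ⟨a, ha⟩
    · exact Or.inl ⟨i, huniq, Or.inl h0, Or.inl ⟨⟨a, by rw [one_mul, hi0, ha]⟩, Or.inl (natural p (by omega) W h hθ ha)⟩⟩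
    · exact Or.inr (Or.inr h1)
    · have h2 := node0_two (p := p) W hm h ha hθ2 hp2
      rcases Nat.lt_or_ge N 5 with h3 | h3
      · have h4 : N = 4 := by omega
        exact Or.inl ⟨i, huniq, Or.inl h0, Or.inr ⟨⟨a, by rw [hi0, ha]⟩, h4, h2.1 h4⟩⟩
      · have := h2.2 h3
        exact Or.inr (Or.inr (by omega))
    · have h2 := node0_adj (p := p) W hm h hf ha hθ2
      exact Or.inr (Or.inr (by omega))
  by_cases h2 : (i : ℕ) + 1 < m
  · exact Or.inr (Or.inr (H991.D3.node_mid (W := W) h h0 h2 hθi huniq))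
  by_cases h3 : 2 ≤ (i : ℕ)
  · exact Or.inr (Or.inr (H991.D3.node_last (W := W) h h3 hθi huniq))
  have hi1 : (i : ℕ) = 1 := by omega
  have hi1' : i = ⟨1, by omega⟩ := Fin.ext hi1
  have hm2 : m = 2 := by omega
  rw [hi1] at h
  have hθ : ∀ i' : Fin m, (i' : ℕ) ≠ 1 → θ i' = 0 := fun i' h1 => huniq i' (by
    rintro rfl
    exact h1 hi1)
  by_cases hV0 : W.V0 = ⊥
  · have hN4 : N = 4 := by rw [hev hV0, hm2]
    subst hN4
    rcases node1_four p hm W h hθ (hi1' ▸ hθi) (hB.last hV0 _ (by simp; omega)) with h1 | h1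
    · exact Or.inr (Or.inl ⟨rfl, h1⟩)
    · exact Or.inr (Or.inr (by omega))
  · have hN5 : N = 5 := by rw [hodd hV0, hm2]
    rcases h5 hN5 (hi1' ▸ hθi) hθ vv ff h with ⟨⟨a, ha⟩, h1⟩ | h1
    · exact Or.inl ⟨i, huniq, Or.inr hV0, Or.inl ⟨⟨a, by rw [one_mul, hi1', ha]⟩, Or.inr ⟨hN5, h1⟩⟩⟩
    · exact Or.inr (Or.inr h1)

/-- **The fields**, `N ≠ 5`. -/
theorem psu_field' (p : ℕ) [hp : Fact p.Prime] [CharP F p] (K : Type) [Field K] [Fintype K] [CharP K p] {N q : ℕ}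
    (hN : 4 ≤ N) (hN5 : N ≠ 5) (hn : Fintype.card ι ≤ 12) (hK : Fintype.card K = q ^ 2) (hC : Core P)
    (Φ : Soc P ≃* PSU N K q) (h6 : ¬ (N = 4 ∧ Fintype.card ι = 6)) : Nat.card F = q ^ 2 ∧ ¬ SD P := by
  obtain ⟨m, W, hm, hW, hev, hodd, k, _, _, _, j, J, θ, hB, hJ, hker, hval⟩ := setup2 p K hN hK hC Φ
  have hfin : Module.finrank k (ι → k) = Fintype.card ι := Module.finrank_fintype_fun_eq_card k
  obtain ⟨f, hf⟩ := exists_f hK p
  have hcj := cj_psu p hN hK hC Φ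
  have h1 := dims2 p hN hm W hev hodd hB hJ hker (fun h => absurd h hN5)
  rw [hfin] at h1
  rcases h1 with ⟨i, hi, hi', ⟨⟨a, ha⟩, -⟩ | ⟨⟨a, ha⟩, -⟩⟩ | h1 | h1
  · exact card_sq p hK hf hC hcj j (Or.inl rfl) (a := a) (by rw [← ha]; exact hval i hi hi')
  · exact card_sq p hK hf hC hcj j (Or.inr rfl) (a := a) (by rw [← ha]; exact hval i hi hi')
  · exact absurd h1 h6
  · omega

/-- **`PSU_4(q)` in dimension `10`.** -/
theorem psu4_ten (p : ℕ) [hp : Fact p.Prime] [CharP F p] (K : Type) [Field K] [Fintype K] [CharP K p] {q : ℕ}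
    (hK : Fintype.card K = q ^ 2) (hC : Core P) (Φ : Soc P ≃* PSU 4 K q) (hn : Fintype.card ι = 10) :
    Nat.card F = q ^ 2 ∧ ¬ SD P :=
  psu_field' p K le_rfl (by omega) (by omega) hK hC Φ (by omega)

/-- **The natural module**, `N ≠ 5`. -/
theorem psu_nat' (p : ℕ) [hp : Fact p.Prime] [CharP F p] (K : Type) [Field K] [Fintype K] [CharP K p] {N q : ℕ}
    (hN : 4 ≤ N) (hN5 : N ≠ 5) (hN12 : N ≤ 12) (hK : Fintype.card K = q ^ 2) (hC : Core P)
    (Φ : Soc P ≃* PSU N K q) (hn : Fintype.card ι = N) : Nat.card F = q ^ 2 ∧ ¬ SD P :=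
  psu_field' p K hN hN5 (by omega) hK hC Φ (by omega)

end

end Cfsg.Agent.H887.D3
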