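import Cfsg.Agent.H876.D3.Base

/-!
# The kernels `h(x, y)^θ` on isotropic vectors (helper887)

Tools for the node `0` of `SU_N(q)`: scalars with `z^q ≠ z`, `ε^q = -ε`, the families of vectors
`x₀ e₀ + x₁ f₀ + x₂ e₁ + x₃ f₁ + x₄ d`.
-/

set_option autoImplicit false
set_option linter.unusedSectionVars false

namespace Cfsg.Agent.H887.D3

open Cfsg Cfsg.Geo Matrix Cfsg.Agent.H876.D3
open LieClassical.HermBasic LieClassical.HermSiegel Cfsg.Agent.TitsThree.KSideU Cfsg.Agent.TitsThree.KSideUDesc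
  Cfsg.Agent.TitsThree.WBridge Cfsg.Agent.TitsThree.SiegelGen Cfsg.Agent.TitsThree.Siegel Cfsg.Agent.H61.SUCross
  Cfsg.Agent.TitsThree.WittFrame
open Cfsg.Agent.Phan (fixedField mem_fixedField card_fixedField)

variable {K : Type} [Field K] [Fintype K] {N q m : ℕ}

section scalars

variable (hK : Fintype.card K = q ^ 2)
include hK

theorem ex_ne : ∃ z : K, z ^ q ≠ z := by
  by_contra hno
  push Not at hno
  have h1 : fixedField hK = ⊤ := by
    rw [eq_top_iff]
    intro z _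
    exact (mem_fixedField hK z).2 (hno z)
  have h2 := card_fixedField hK
  rw [h1] at h2
  have h3 : Nat.card (⊤ : Subfield K) = Nat.card K := Nat.card_congr Subfield.topEquiv.toEquiv
  rw [h3, Nat.card_eq_fintype_card, hK] at h2
  have h4 : 2 ≤ q := two_le_q hK
  nlinarith

theorem ex_tr : ∃ z : K, z + z ^ q ≠ 0 := by
  obtain ⟨z, hz⟩ := ex_ne hK
  by_cases h2 : (1 : K) + 1 = 0
  · refine ⟨z, fun h => hz ?_⟩
    have h3 : z + z = 0 := by
      have : z + z = (1 + 1) * z := by ring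
      rw [this, h2, zero_mul]
    have h4 : z ^ q = - z := by rw [add_comm] at h; exact eq_neg_of_add_eq_zero_left h
    rw [h4]
    exact (eq_neg_of_add_eq_zero_left h3).symm
  · exact ⟨1, by rw [one_pow]; exact h2⟩

theorem ex_eps : ∃ ε : K, ε ≠ 0 ∧ ε ^ q = -ε := by
  obtain ⟨z, hz⟩ := ex_ne hK
  refine ⟨z - z ^ q, fun h => hz (sub_eq_zero.1 h).symm, ?_⟩
  rw [sub_pow_q hK, pow_q_pow_q hK]
  ring

end scalars

variable {hK : Fintype.card K = q ^ 2}

theorem Gr_zero (hm : 0 < m) (u u' : Fin m → Fin N → K) :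
    Gr q ⟨0, hm⟩ u u' = hermForm N K q (u ⟨0, hm⟩) (u' ⟨0, hm⟩) := by
  unfold Gr
  have : Unique {a : Fin m // a ≤ ⟨0, hm⟩} :=
    { default := ⟨⟨0, hm⟩, le_refl _⟩
      uniq := fun a => Subtype.ext (Fin.ext (Nat.le_zero.1 a.2)) }
  rw [Matrix.det_unique, Matrix.of_apply]
  have h : (default : {a : Fin m // a ≤ ⟨0, hm⟩}) = ⟨⟨0, hm⟩, le_refl _⟩ := Subsingleton.elim _ _
  rw [h]

theorem prod_eq {k : Type*} [Field k] (j : K →+* k) (hm : 0 < m) {θ : Fin m → ℕ}
    (h0 : ∀ i : Fin m, (i : ℕ) ≠ 0 → θ i = 0) (u u' : Fin m → Fin N → K) :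
    ∏ i, j (Gr q i u u') ^ θ i = j (hermForm N K q (u ⟨0, hm⟩) (u' ⟨0, hm⟩)) ^ θ ⟨0, hm⟩ := by
  rw [Finset.prod_eq_single ⟨0, hm⟩, Gr_zero]
  · intro i _ hi
    rw [h0 i (fun h => hi (Fin.ext h)), pow_zero]
  · intro h
    exact absurd (Finset.mem_univ _) h

theorem pfr_one (hm : 0 < m) {v : Fin N → K} (hv : hermForm N K q v v = 0) (h0 : v ≠ 0) :
    PFr (m := m) q 1 (fun _ => v) := by
  refine ⟨fun _ _ _ _ => hv, ?_⟩
  have : Subsingleton {a : Fin m // (a : ℕ) < 1} := ⟨fun a b => Subtype.ext (Fin.ext (by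
    have := a.2; have := b.2; omega))⟩
  exact LinearIndependent.of_subsingleton' (⟨⟨0, hm⟩, Nat.zero_lt_one⟩ : {a : Fin m // (a : ℕ) < 1})
    (fun c hc => (smul_eq_zero.1 hc).resolve_right h0)

/-- coordinates -/
noncomputable def vec (W : WFrame (PU hK N) m) (hm : 2 ≤ m) (d : Fin N → K) (x : Fin 5 → K) :
    Fin N → K :=
  x 0 • W.e ⟨0, by omega⟩ + x 1 • W.f ⟨0, by omega⟩ + x 2 • W.e ⟨1, by omega⟩ +
    x 3 • W.f ⟨1, by omega⟩ + x 4 • d

/-- the form in coordinates -/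
def hf (q : ℕ) (η : K) (x y : Fin 5 → K) : K :=
  x 0 * y 1 ^ q + x 1 * y 0 ^ q + x 2 * y 3 ^ q + x 3 * y 2 ^ q + η * (x 4 * y 4 ^ q)

/-- `d` is orthogonal to `e₀, f₀, e₁, f₁` -/
structure Orth (W : WFrame (PU hK N) m) (d : Fin N → K) : Prop where
  de : ∀ i : Fin m, (i : ℕ) < 2 → hermForm N K q d (W.e i) = 0
  df : ∀ i : Fin m, (i : ℕ) < 2 → hermForm N K q d (W.f i) = 0

theorem orth_zero (W : WFrame (PU hK N) m) : Orth W 0 :=
  ⟨fun _ _ => herm_zero_left _, fun _ _ => herm_zero_left _⟩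

theorem herm_vec (W : WFrame (PU hK N) m) (hm : 2 ≤ m) {d : Fin N → K} (hd : Orth W d)
    (x y : Fin 5 → K) :
    hermForm N K q (vec W hm d x) (vec W hm d y) = hf q (hermForm N K q d d) x y := by
  have de0 := hd.de ⟨0, by omega⟩ (by norm_num)
  have de1 := hd.de ⟨1, by omega⟩ (by norm_num)
  have df0 := hd.df ⟨0, by omega⟩ (by norm_num)
  have df1 := hd.df ⟨1, by omega⟩ (by norm_num)
  have ed0 : hermForm N K q (W.e ⟨0, by omega⟩) d = 0 := by rw [herm_swap hK d, de0, zero_pow_q hK]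
  have ed1 : hermForm N K q (W.e ⟨1, by omega⟩) d = 0 := by rw [herm_swap hK d, de1, zero_pow_q hK]
  have fd0 : hermForm N K q (W.f ⟨0, by omega⟩) d = 0 := by rw [herm_swap hK d, df0, zero_pow_q hK]
  have fd1 : hermForm N K q (W.f ⟨1, by omega⟩) d = 0 := by rw [herm_swap hK d, df1, zero_pow_q hK]
  unfold vec hf
  simp only [herm_add_left, herm_add_right hK, herm_smul_left, herm_smul_right, h_ee, h_ff, h_ef, h_fe,
    de0, de1, df0, df1, ed0, ed1, fd0, fd1, Fin.mk.injEq, zero_ne_one, one_ne_zero, if_true, if_false, mul_zero,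
    add_zero, zero_add, mul_one]
  ring

theorem hf_nondeg (hK : Fintype.card K = q ^ 2) {η : K} {x : Fin 5 → K} (h : ∀ y, hf q η x y = 0)
    (h4 : x 4 = 0 ∨ η ≠ 0) : x = 0 := by
  have z := zero_pow_q (F := K) hK
  have e0 := h (Pi.single 1 1)
  have e1 := h (Pi.single 0 1)
  have e2 := h (Pi.single 3 1)
  have e3 := h (Pi.single 2 1)
  have e4 := h (Pi.single 4 1)
  simp [hf, z] at e0 e1 e2 e3 e4
  have e4' : x 4 = 0 := by
    rcases h4 with h4 | h4
    · exact h4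
    · exact e4.resolve_left h4
  funext i
  fin_cases i <;> assumption

theorem vec_ne (W : WFrame (PU hK N) m) (hm : 2 ≤ m) {d : Fin N → K} (hd : Orth W d)
    {x : Fin 5 → K} (h4 : x 4 = 0 ∨ hermForm N K q d d ≠ 0) (hx : x ≠ 0) : vec W hm d x ≠ 0 := by
  intro h
  apply hx
  apply hf_nondeg hK (η := hermForm N K q d d) _ h4
  intro y
  rw [← herm_vec W hm hd, h, herm_zero_left]

/-- a nonisotropic vector orthogonal to `e₀, f₀, e₁, f₁` -/
theorem ex_d (W : WFrame (PU hK N) m) (hm : 2 ≤ m) (hN : 5 ≤ N) : ∃ d : Fin N → K,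
    hermForm N K q d d ≠ 0 ∧ Orth W d := by
  by_cases h3 : 3 ≤ m
  · obtain ⟨z, hz⟩ := ex_tr hK
    have hi : ∀ i : Fin m, (i : ℕ) < 2 → (⟨2, h3⟩ : Fin m) ≠ i := by
      rintro i hi rfl
      exact absurd hi (by norm_num)
    refine ⟨W.e ⟨2, h3⟩ + z • W.f ⟨2, h3⟩, ?_, fun i h => ?_, fun i h => ?_⟩
    · simp only [herm_add_left, herm_add_right hK, herm_smul_left, herm_smul_right, h_ee, h_ff, h_ef, h_fe]
      simp only [if_true, mul_zero, mul_one, add_zero, zero_add]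
      exact hz
    · rw [herm_add_left, herm_smul_left, h_ee, h_fe, if_neg (hi i h), mul_zero, add_zero]
    · rw [herm_add_left, herm_smul_left, h_ff, h_ef, if_neg (hi i h), mul_zero, add_zero]
  · have hm2 : m = 2 := by omega
    obtain ⟨w, hw, hw0⟩ : ∃ w ∈ W.V0, w ≠ 0 := by
      by_contra hno
      push Not at hno
      let Φ : ((Fin m → K) × (Fin m → K)) →ₗ[K] (Fin N → K) :=
        LinearMap.coprod (Fintype.linearCombination K W.e) (Fintype.linearCombination K W.f)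
      have hΦ : Function.Surjective Φ := by
        intro v
        obtain ⟨a, b, w, hw, hv⟩ := W.span v
        refine ⟨(a, b), ?_⟩
        rw [hv, hno w hw, add_zero]
        rfl
      have h5 := LinearMap.finrank_le_finrank_of_surjective hΦ
      rw [Module.finrank_fintype_fun_eq_card, Fintype.card_fin, Module.finrank_prod,
        Module.finrank_fintype_fun_eq_card, Fintype.card_fin] at h5
      omega
    refine ⟨w, fun h => hw0 (W.aniso w hw ((sing_iff hK).2 h)), fun i _ => W.V0e w hw i,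
      fun i _ => W.V0f w hw i⟩

end Cfsg.Agent.H887.D3
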